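import Mathlib
import Cfsg.Prelude.Def_Blocks
import Cfsg.Prelude.Def_BlockRank
import Cfsg.Prelude.Def_Local
import Cfsg.Prelude.Def_Exceptional
import Cfsg.Prelude.Def_Sporadic
import Cfsg.Prelude.Def_Classification2

/-!
# S4819, S4820: blocks with a TI Sylow defect group: the interface (helper723)

* `TIs P` : the hypothesis of S4819; `Rk p P` : its conclusion (for all `M`, `B`, `b`);
* `Sit p P S` : `K = O_{p'}(G)` is centralised by `P`, `S` is a normal non-abelian simple subgroup of `G / K` with trivial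
  centralizer;
* `Row p Φ` : `Rk p P` holds whenever `Sit p P S`, `P K / K ≤ S` and `Φ S`;
* `RowL34`, `RowM11`, `RowTits`, `RowMcL`, `RowJ4`, `RowSz32` : the exceptional rows;
* `RankOne` : the rank one case.
-/

set_option autoImplicit false

namespace Cfsg.Agent.H723.TI

open Cfsg
open scoped Pointwise

universe u

/-- the hypothesis of S4819 -/
def TIs {p : ℕ} {G : Type u} [Group G] (P : Sylow p G) : Prop :=
  ∀ g : G, g ∉ Subgroup.normalizer ((P : Subgroup G) : Set G) →
    (P : Subgroup G) ⊓ (MulAut.conj g • (P : Subgroup G)) = ⊥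

/-- the conclusion of S4819 -/
def Rk (p : ℕ) {G : Type u} [Group G] (P : Sylow p G) : Prop :=
  ∀ M : Ideal AlgInt, IsPModular p M → ∀ B : Set (IrrCharacter G), IsPBlock M B →
    IsDefectGroup p M B (P : Subgroup G) →
    ∀ b : Set (IrrCharacter (Subgroup.normalizer ((P : Subgroup G) : Set G))),
      IsInducedBlock M (Subgroup.normalizer ((P : Subgroup G) : Set G)) b B → blockRank p B = blockRank p b

/-- the situation of the rows: `K = O_{p'}(G)` is centralised by the TI Sylow `p`-subgroup `P`; `S` is a normal non-abelian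
simple subgroup of `G / K` with trivial centralizer -/
structure Sit (p : ℕ) {G : Type u} [Group G] (P : Sylow p G) (S : Subgroup (G ⧸ pPrimeCore p G)) : Prop where
  ti : TIs P
  cen : pPrimeCore p G ≤ Subgroup.centralizer ((P : Subgroup G) : Set G)
  normal : S.Normal
  simple : IsSimpleGroup S
  nonab : ¬ IsMulCommutative S
  cent : Subgroup.centralizer (S : Set (G ⧸ pPrimeCore p G)) = ⊥

/-- the image of `P` in `G / O_{p'}(G)` -/
def img (p : ℕ) {G : Type u} [Group G] (P : Sylow p G) : Subgroup (G ⧸ pPrimeCore p G) :=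
  (P : Subgroup G).map (QuotientGroup.mk' (pPrimeCore p G))

/-- a row: `P K / K ≤ S` and `S` of type `Φ` -/
def Row (p : ℕ) (Φ : (S : Type u) → [Group S] → Prop) : Prop :=
  ∀ (G : Type u) [Group G] [Finite G] (P : Sylow p G) (S : Subgroup (G ⧸ pPrimeCore p G)), Sit p P S →
    img p P ≤ S → Φ S → Rk p P

/-- `PSL₃(4)`, `p = 3` -/
def RowL34 : Prop := Row.{u} 3 (fun S _ => ∃ (F : Type) (_ : Field F) (_ : Fintype F), Fintype.card F = 4 ∧
  Nonempty (S ≃* Matrix.ProjectiveSpecialLinearGroup (Fin 3) F))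

/-- `M₁₁`, `p = 3` -/
def RowM11 : Prop := Row.{u} 3 (fun S _ => Spor.IsoM11 S)

/-- the Tits group, `p = 5` -/
def RowTits : Prop := Row.{u} 5 (fun S _ => Lie.IsoTits S)

/-- `McL`, `p = 5` -/
def RowMcL : Prop := Row.{u} 5 (fun S _ => Spor.IsoMcL S)

/-- `J₄`, `p = 11` -/
def RowJ4 : Prop := Row.{u} 11 (fun S _ => Spor.IsoJ4 S)

/-- `Sz(32) : 5`, `p = 5`; here `P K / K` is not contained in `S` -/
def RowSz32 : Prop :=
  ∀ (G : Type u) [Group G] [Finite G] (P : Sylow 5 G) (S : Subgroup (G ⧸ pPrimeCore 5 G)), Sit 5 P S →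
    ¬ img 5 P ≤ S → (∃ (F : Type) (_ : Field F) (_ : Fintype F), Fintype.card F = 32 ∧ Nonempty (S ≃* ↥(Lie.Sz F 8))) →
    Rk 5 P

/-- the rank one case -/
def RankOne : Prop :=
  ∀ (p : ℕ) [Fact p.Prime] (G : Type u) [Group G] [Finite G] (P : Sylow p G), (P : Subgroup G) ≠ ⊥ → TIs P →
    Nat.card (Sylow p G) = 1 + Nat.card (P : Subgroup G) → Rk p P

end Cfsg.Agent.H723.TI
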