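import Mathlib
import Cfsg.Agent.H723.TI.Defs
import Cfsg.Agent.S0912
import Cfsg.Agent.S4635
import Cfsg.Agent.H644.Trace
import Cfsg.Agent.Blocks.Basic

/-!
# S4819: cyclic TI Sylow subgroups

* `defect_b` : every block of `N_G(P)` has defect group `P`;
* `rk_cyclic` : S4819 for `P` cyclic, `P ≠ ⊥`.
-/

set_option autoImplicit false

namespace Cfsg.Agent.H723.TI

open Cfsg
open scoped Pointwise

universe u

variable {G : Type u} [Group G] [Finite G] {p : ℕ}

/-- Every block of `N_G(P)` has defect group `P`, `P` a Sylow `p`-subgroup. -/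
theorem defect_b [Fact p.Prime] {M : Ideal AlgInt} (hM : IsPModular p M) (P : Sylow p G)
    {b : Set (IrrCharacter (Subgroup.normalizer ((P : Subgroup G) : Set G)))} (hb : IsPBlock M b) :
    IsDefectGroup p M b ((P : Subgroup G).subgroupOf (Subgroup.normalizer ((P : Subgroup G) : Set G))) := by
  have : M.IsPrime := hM.2.1.isPrime
  obtain ⟨D, hD⟩ := Cfsg.Agent.H644.exists_isDefectGroup hM hb
  have h1 : pCore p (Subgroup.normalizer ((P : Subgroup G) : Set G)) ≤ D := Cfsg.Agent.S0912.result p M hM b hb D hD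
  have hPn : ((P : Subgroup G).subgroupOf (Subgroup.normalizer ((P : Subgroup G) : Set G))).Normal :=
    Subgroup.normal_in_normalizer
  have hPp : IsPGroup p ((P : Subgroup G).subgroupOf (Subgroup.normalizer ((P : Subgroup G) : Set G))) :=
    P.isPGroup'.comap_of_injective _ (Subgroup.subtype_injective _)
  have h2 : (P : Subgroup G).subgroupOf (Subgroup.normalizer ((P : Subgroup G) : Set G)) ≤
      pCore p (Subgroup.normalizer ((P : Subgroup G) : Set G)) := by
    exact le_sSup ⟨hPn, hPp⟩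
  have h3 : (P : Subgroup G).subgroupOf (Subgroup.normalizer ((P : Subgroup G) : Set G)) ≤ D := h2.trans h1
  have hDp : IsPGroup p D := Blocks.Basic.isPGroup_of_isDefectGroup hD
  have h4 : D.map (Subgroup.normalizer ((P : Subgroup G) : Set G)).subtype = (P : Subgroup G) := by
    apply P.is_maximal' (hDp.map _)
    intro x hx
    exact ⟨⟨x, Subgroup.le_normalizer hx⟩, h3 (Subgroup.mem_subgroupOf.mpr hx), rfl⟩
  have h5 : D = (P : Subgroup G).subgroupOf (Subgroup.normalizer ((P : Subgroup G) : Set G)) := by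
    refine le_antisymm ?_ h3
    intro x hx
    have h6 : (x : G) ∈ D.map (Subgroup.normalizer ((P : Subgroup G) : Set G)).subtype := ⟨x, hx, rfl⟩
    rw [Subgroup.mem_subgroupOf]
    exact h4.le h6
  rw [← h5]
  exact hD

omit [Finite G] in
/-- elements of order dividing `p` of a finite cyclic group lie in the subgroup of order `p` -/
theorem mem_of_pow [Finite G] {P Z : Subgroup G} (hc : IsCyclic P) (hZ : Z ≤ P) (hp : 0 < p) (hZc : Nat.card Z = p)
    {x : G} (hx : x ∈ P) (hxp : x ^ p = 1) : x ∈ Z := by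
  classical
  have := Fintype.ofFinite G
  have hle : (Finset.univ.filter (fun y : P => y ^ p = 1)).card ≤ p := IsCyclic.card_pow_eq_one_le hp
  have hsub : Finset.univ.filter (fun y : P => (y : G) ∈ Z) ⊆ Finset.univ.filter (fun y : P => y ^ p = 1) := by
    intro y hy
    simp only [Finset.mem_filter, Finset.mem_univ, true_and] at hy ⊢
    have h1 : (⟨(y : G), hy⟩ : Z) ^ p = 1 := by
      rw [← hZc]; exact pow_card_eq_one'
    apply Subtype.ext
    have := congrArg Subtype.val h1
    simpa using this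
  have hcard : (Finset.univ.filter (fun y : P => (y : G) ∈ Z)).card = p := by
    rw [← hZc, Nat.card_eq_fintype_card, ← Fintype.card_subtype]
    exact Fintype.card_congr ⟨fun y => ⟨y.1.1, y.2⟩, fun z => ⟨⟨z.1, hZ z.2⟩, z.2⟩, fun _ => rfl, fun _ => rfl⟩
  have heq := Finset.eq_of_subset_of_card_le hsub (by rw [hcard]; exact hle)
  have : (⟨x, hx⟩ : P) ∈ Finset.univ.filter (fun y : P => (y : G) ∈ Z) := by
    rw [heq]
    simp only [Finset.mem_filter, Finset.mem_univ, true_and]
    exact Subtype.ext (by simpa using hxp)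
  simpa using this

omit [Finite G] in
/-- `N_G(Z) ≤ N_G(P)` for `1 ≠ Z ≤ P`, `P` TI -/
theorem normalizer_le_of_ti {P : Sylow p G} (hTI : TIs P) {Z : Subgroup G} (hZ : Z ≤ P) (hZ1 : Z ≠ ⊥) :
    Subgroup.normalizer (Z : Set G) ≤ Subgroup.normalizer ((P : Subgroup G) : Set G) := by
  intro g hg
  by_contra hn
  apply hZ1
  rw [eq_bot_iff, ← hTI g hn]
  refine le_inf hZ ?_
  intro z hz
  rw [Subgroup.mem_pointwise_smul_iff_inv_smul_mem]
  apply hZ
  have h1 := (Subgroup.mem_normalizer_iff.mp (inv_mem hg) z).mp hz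
  simpa [MulAut.conj_apply] using h1

/-- `N_G(P) ≤ N_G(Z)`, `P` cyclic, `Z ≤ P` of order `p` -/
theorem normalizer_le_of_cyclic {P : Subgroup G} (hc : IsCyclic P) {Z : Subgroup G} (hZ : Z ≤ P) (hp : 0 < p)
    (hZc : Nat.card Z = p) : Subgroup.normalizer (P : Set G) ≤ Subgroup.normalizer (Z : Set G) := by
  intro g hg
  have key : ∀ h ∈ Subgroup.normalizer (P : Set G), ∀ z ∈ Z, h * z * h⁻¹ ∈ Z := by
    intro h hh z hz
    apply mem_of_pow hc hZ hp hZc ((Subgroup.mem_normalizer_iff.mp hh z).mp (hZ hz))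
    have h1 : (⟨z, hz⟩ : Z) ^ p = 1 := by rw [← hZc]; exact pow_card_eq_one'
    have h2 : z ^ p = 1 := by simpa using congrArg Subtype.val h1
    rw [conj_pow, h2, mul_one, mul_inv_cancel]
  rw [Subgroup.mem_normalizer_iff]
  intro z
  refine ⟨key g hg z, fun h => ?_⟩
  have := key g⁻¹ (inv_mem hg) _ h
  simpa [mul_assoc] using this

/-- S4819 for `P` cyclic, `P ≠ ⊥` -/
theorem rk_cyclic [Fact p.Prime] (P : Sylow p G) (hP1 : (P : Subgroup G) ≠ ⊥) (hc : IsCyclic (P : Subgroup G))
    (hTI : TIs P) : Rk p P := by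
  intro M hM B hB hBP b hb
  have hp : p.Prime := Fact.out
  obtain ⟨x, hx⟩ : ∃ x : (P : Subgroup G), orderOf x = p := by
    apply exists_prime_orderOf_dvd_card'
    have h1 : Nat.card (P : Subgroup G) ≠ 1 := fun h => hP1 (Subgroup.card_eq_one.mp h)
    obtain ⟨n, hn⟩ := IsPGroup.iff_card.mp P.isPGroup'
    rw [hn]
    apply dvd_pow_self
    rintro rfl
    exact h1 (by simpa using hn)
  have hxZ : Nat.card (Subgroup.zpowers (x : G)) = p := by
    rw [Nat.card_zpowers, Subgroup.orderOf_coe, hx]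
  have hZ : Subgroup.zpowers (x : G) ≤ P := by
    rw [Subgroup.zpowers_le]; exact x.2
  have hZ1 : Subgroup.zpowers (x : G) ≠ ⊥ := by
    intro h
    rw [h, Subgroup.card_bot] at hxZ
    exact hp.one_lt.ne hxZ
  have hN : Subgroup.normalizer ((P : Subgroup G) : Set G) = Subgroup.normalizer ((Subgroup.zpowers (x : G)) : Set G) :=
    le_antisymm (normalizer_le_of_cyclic hc hZ hp.pos hxZ) (normalizer_le_of_ti hTI hZ hZ1)
  exact (Cfsg.Agent.S4635.result p M hM B hB P hBP hP1 hc _ hZ hxZ _ hN b (defect_b hM P hb.1) hb).2.1.symm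

end Cfsg.Agent.H723.TI
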