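import Mathlib
import Cfsg.Agent.H723.TI.Defs
import Cfsg.Agent.S0215
import Cfsg.Agent.Lib.Cores
import Cfsg.Agent.LFourB.ProdAut
import Cfsg.Agent.PermutationGroups.AutQuaternion
import Cfsg.Agent.CharDeep.QuatSylowBasic
import Cfsg.Agent.Blocks.CentralSylow

/-!
# Groups with a generalised quaternion TI Sylow 2-subgroup

`P` TI, generalised quaternion, `N = N_G(P)`, `K = O_{2'}(G)`: `G = K N`, `K ∩ N` centralises `P`, `K P` is normal of index
1 or 3 (`QH`), and the same holds in `N` with `K ∩ N`.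
-/

set_option autoImplicit false

namespace Cfsg.Agent.H723.TI

open Cfsg
open scoped Pointwise

universe u

/-- the structure of the groups in question -/
structure QH {X : Type u} [Group X] (K P : Subgroup X) (n : ℕ) : Prop where
  Kn : K.Normal
  Kodd : ¬ 2 ∣ Nat.card K
  pP : IsPGroup 2 P
  sP : ¬ 2 ∣ P.index
  n3 : 3 ≤ n
  q : Nonempty (P ≃* QuaternionGroup (2 ^ (n - 2)))
  Gn : (K ⊔ P).Normal
  idx : (K ⊔ P).index = 1 ∨ ((K ⊔ P).index = 3 ∧ n = 3 ∧
    ∀ x : X, x ∉ K ⊔ P → ¬ 2 ∣ orderOf x → ¬ 4 ∣ Nat.card (Subgroup.centralizer ({x} : Set X)))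

section

variable {G : Type u} [Group G]

theorem TIs.mem {p : ℕ} {P : Sylow p G} (h : TIs P) {x g : G} (hx : x ∈ (P : Subgroup G)) (hx1 : x ≠ 1)
    (hg : g⁻¹ * x * g ∈ (P : Subgroup G)) : g ∈ Subgroup.normalizer ((P : Subgroup G) : Set G) := by
  by_contra hcon
  have h1 : x ∈ (P : Subgroup G) ⊓ (MulAut.conj g • (P : Subgroup G)) := by
    refine Subgroup.mem_inf.2 ⟨hx, ?_⟩
    rw [Subgroup.mem_pointwise_smul_iff_inv_smul_mem, ← map_inv, MulAut.smul_def,
      MulAut.conj_apply, inv_inv]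
    exact hg
  rw [h g hcon, Subgroup.mem_bot] at h1
  exact hx1 h1

theorem TIs.cent_le {p : ℕ} {P : Sylow p G} (h : TIs P) {x : G} (hx : x ∈ (P : Subgroup G)) (hx1 : x ≠ 1)
    {g : G} (hg : g * x = x * g) : g ∈ Subgroup.normalizer ((P : Subgroup G) : Set G) := by
  apply h.mem hx hx1
  rw [mul_assoc, ← hg, inv_mul_cancel_left]
  exact hx

variable [Finite G]

/-- an involution commuting with no other conjugate of itself is central modulo the odd core -/
theorem centralizer_sup_core {t : G} (ht : orderOf t = 2)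
    (hiso : ∀ g : G, g * t * g⁻¹ * t = t * (g * t * g⁻¹) → g * t * g⁻¹ = t) (g : G) :
    ∃ m ∈ pPrimeCore 2 G, (m⁻¹ * g) * t = t * (m⁻¹ * g) := by
  have : Fact (Nat.Prime 2) := ⟨Nat.prime_two⟩
  have htt : t * t = 1 := by rw [← pow_two, ← ht, pow_orderOf_eq_one]
  -- a Sylow 2-subgroup containing `t`
  have hp : IsPGroup 2 (Subgroup.zpowers t) := IsPGroup.of_card (n := 1) (by rw [Nat.card_zpowers, ht, pow_one])
  obtain ⟨P, hP⟩ := hp.exists_le_sylow
  have htP : t ∈ P := hP (Subgroup.mem_zpowers t)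
  -- `t` is central in `P`
  have hcen : ∀ x ∈ P, x * t = t * x := by
    by_contra hne
    set H : Subgroup ↥(P : Subgroup G) := Subgroup.centralizer {(⟨t, htP⟩ : ↥(P : Subgroup G))} with hH
    have : Group.IsNilpotent ↥(P : Subgroup G) := P.isPGroup'.isNilpotent
    have hlt : H < ⊤ := by
      rw [lt_top_iff_ne_top]
      intro h
      apply hne
      intro x hx
      have h1 : (⟨x, hx⟩ : ↥(P : Subgroup G)) ∈ H := by rw [h]; trivial
      rw [hH, Subgroup.mem_centralizer_singleton_iff] at h1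
      exact congrArg Subtype.val h1
    have h2 := Group.normalizerCondition_of_isNilpotent H hlt
    obtain ⟨x, hx1, hx2⟩ := SetLike.exists_of_lt h2
    have h3 : x * (⟨t, htP⟩ : ↥(P : Subgroup G)) * x⁻¹ ∈ H :=
      (Subgroup.mem_normalizer_iff.1 hx1 _).1 (by rw [hH, Subgroup.mem_centralizer_singleton_iff])
    rw [hH, Subgroup.mem_centralizer_singleton_iff] at h3
    have h4 := congrArg Subtype.val h3
    have h5 : (x : G) * t * (x : G)⁻¹ = t := hiso x h4
    apply hx2
    rw [hH, Subgroup.mem_centralizer_singleton_iff]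
    refine Subtype.ext ?_
    change (x : G) * t = t * x
    exact mul_inv_eq_iff_eq_mul.1 h5
  obtain ⟨N, hN, hodd, hcomm⟩ := Cfsg.Agent.S0215.result P t ht htP (fun g hg => hiso g (hcen _ hg))
  have hNle : N ≤ pPrimeCore 2 G := le_sSup ⟨hN, (Nat.coprime_two_right.2 hodd)⟩
  -- `n = g t g⁻¹ t` lies in `N` and is inverted by `t`
  set n : G := g * t * g⁻¹ * t with hn
  have hnN : n ∈ N := by
    have h1 := N.inv_mem (hcomm g)
    have h2 : (t * g * t⁻¹ * g⁻¹)⁻¹ = g * t * g⁻¹ * t⁻¹ := by group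
    have h3 : t⁻¹ = t := inv_eq_of_mul_eq_one_left htt
    rw [h2, h3] at h1
    exact h1
  have hinv : t * n * t = n⁻¹ := by
    have h3 : t⁻¹ = t := inv_eq_of_mul_eq_one_left htt
    rw [hn, mul_inv_rev, mul_inv_rev, mul_inv_rev, inv_inv, h3]
    simp only [← mul_assoc]
    rw [mul_assoc (t * g * t * g⁻¹), htt, mul_one]
  have hno : Odd (orderOf n) := by
    have h1 : orderOf n ∣ Nat.card N := by
      have := orderOf_dvd_natCard (⟨n, hnN⟩ : N)
      rwa [Subgroup.orderOf_mk] at this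
    exact hodd.of_dvd_nat h1
  obtain ⟨k, hk⟩ := hno
  -- a square root
  set m : G := n ^ (k + 1) with hm
  have hmm : m * m = n := by
    rw [hm, ← pow_add]
    have : k + 1 + (k + 1) = orderOf n + 1 := by omega
    rw [this, pow_succ, pow_orderOf_eq_one, one_mul]
  have hminv : t * m * t = m⁻¹ := by
    have h3 : t⁻¹ = t := inv_eq_of_mul_eq_one_left htt
    have h4 : t * m * t = (t * n * t⁻¹) ^ (k + 1) := by
      rw [conj_pow, h3]
    rw [h4, h3, hinv, inv_pow]
  have hmN : m ∈ N := N.pow_mem hnN _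
  refine ⟨m, hNle hmN, ?_⟩
  have h7 : g * t = n * t * g := by
    rw [hn]
    have : g * t * g⁻¹ * t * t * g = g * t * g⁻¹ * (t * t) * g := by group
    rw [this, htt]; group
  have h8 : m * t = t * m⁻¹ := by
    rw [← hminv, ← mul_assoc, ← mul_assoc, htt, one_mul]
  calc m⁻¹ * g * t = m⁻¹ * (m * m) * t * g := by rw [mul_assoc, h7, hmm]; group
    _ = (m * t) * g := by group
    _ = t * (m⁻¹ * g) := by rw [h8]; group

/-- A `p`-element normalising a Sylow `p`-subgroup lies in it. -/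
theorem mem_of_normalizes {p : ℕ} [Fact p.Prime] {P : Sylow p G} {x : G}
    (hx : x ∈ Subgroup.normalizer ((P : Subgroup G) : Set G)) {k : ℕ} (hxk : x ^ p ^ k = 1) : x ∈ (P : Subgroup G) := by
  have hz : IsPGroup p (Subgroup.zpowers x) := by
    have : orderOf x ∣ p ^ k := orderOf_dvd_of_pow_eq_one hxk
    obtain ⟨j, -, hj⟩ := (Nat.dvd_prime_pow (Fact.out : p.Prime)).1 this
    exact IsPGroup.of_card (n := j) (by rw [Nat.card_zpowers, hj])
  have h1 := IsPGroup.inf_normalizer_sylow hz P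
  exact (h1.le ⟨Subgroup.mem_zpowers x, hx⟩).2

/-- the quaternion TI situation -/
structure QG (P : Sylow 2 G) (z : G) : Prop where
  ti : TIs P
  mem : z ∈ (P : Subgroup G)
  ord : orderOf z = 2
  uniq : ∀ x ∈ (P : Subgroup G), orderOf x = 2 → x = z

variable {P : Sylow 2 G} {z : G}

theorem QG.ne (h : QG P z) : z ≠ 1 := by
  intro h1
  have := h.ord
  rw [h1, orderOf_one] at this
  omega

theorem QG.iso (h : QG P z) (g : G) (hg : g * z * g⁻¹ * z = z * (g * z * g⁻¹)) : g * z * g⁻¹ = z := by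
  have : Fact (Nat.Prime 2) := ⟨Nat.prime_two⟩
  have h1 := h.ti.cent_le h.mem h.ne hg
  have ho : orderOf (g * z * g⁻¹) = 2 := by
    rw [← h.ord]
    exact (MulAut.conj g).orderOf_eq z
  have h2 : (g * z * g⁻¹) ^ 2 ^ 1 = 1 := by
    rw [pow_one, ← ho, pow_orderOf_eq_one]
  exact h.uniq _ (mem_of_normalizes h1 h2) ho

theorem QG.sup_top (h : QG P z) : pPrimeCore 2 G ⊔ Subgroup.normalizer ((P : Subgroup G) : Set G) = ⊤ := by
  rw [eq_top_iff]
  intro g _
  obtain ⟨m, hm, hmg⟩ := centralizer_sup_core h.ord h.iso g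
  have h9 : g = m * (m⁻¹ * g) := by group
  rw [h9]
  exact mul_mem (Subgroup.mem_sup_left hm) (Subgroup.mem_sup_right (h.ti.cent_le h.mem h.ne hmg))

theorem core_odd : ¬ 2 ∣ Nat.card (pPrimeCore 2 G) := by
  have h1 := Lib.Cores.pPrimeCore_coprime (G := G) 2
  intro h2
  have := Nat.dvd_gcd h2 (dvd_refl 2)
  rw [h1] at this
  omega

/-- `K ∩ P = 1` for `K` of odd order -/
theorem eq_one_of_mem {K : Subgroup G} (hK : ¬ 2 ∣ Nat.card K) {x : G} (hxK : x ∈ K) (hxP : x ∈ (P : Subgroup G)) :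
    x = 1 := by
  have : Fact (Nat.Prime 2) := ⟨Nat.prime_two⟩
  obtain ⟨k, hk⟩ := P.isPGroup' ⟨x, hxP⟩
  have h2 : x ^ 2 ^ k = 1 := by simpa using congrArg Subtype.val hk
  have h3 : orderOf x ∣ Nat.card K := by
    have := orderOf_dvd_natCard (⟨x, hxK⟩ : K)
    rwa [Subgroup.orderOf_mk] at this
  have h4 : orderOf x ∣ 2 ^ k := orderOf_dvd_of_pow_eq_one h2
  have h5 : Nat.Coprime (Nat.card K) (2 ^ k) :=
    Nat.Coprime.pow_right k ((Nat.Prime.coprime_iff_not_dvd Nat.prime_two).2 hK).symm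
  have h6 := Nat.dvd_gcd h3 h4
  rw [h5] at h6
  exact orderOf_eq_one_iff.1 (Nat.dvd_one.1 h6)

/-- `K ∩ N_G(P)` centralises `P` -/
theorem cent_of_mem {K : Subgroup G} (hKn : K.Normal) (hK : ¬ 2 ∣ Nat.card K) {x : G} (hxK : x ∈ K)
    (hx : x ∈ Subgroup.normalizer ((P : Subgroup G) : Set G)) : x ∈ Subgroup.centralizer ((P : Subgroup G) : Set G) := by
  rw [Subgroup.mem_centralizer_iff]
  intro u hu
  have h1 : x * u * x⁻¹ * u⁻¹ ∈ (P : Subgroup G) :=
    mul_mem ((Subgroup.mem_normalizer_iff.1 hx u).1 hu) (inv_mem hu)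
  have h2 : x * u * x⁻¹ * u⁻¹ ∈ K := by
    have := mul_mem hxK (hKn.conj_mem x⁻¹ (inv_mem hxK) u)
    simpa [mul_assoc] using this
  have h3 := eq_one_of_mem hK h2 h1
  have h4 : x * u * x⁻¹ = u := mul_inv_eq_one.1 h3
  exact (mul_inv_eq_iff_eq_mul.1 h4).symm

/-- The `p'`-part of the centralizer of a Sylow `p`-subgroup. -/
theorem exists_odd_cent (P : Sylow 2 G) : ∃ Y : Subgroup G, ¬ 2 ∣ Nat.card Y ∧
    ∀ y, y ∈ Y ↔ y ∈ Subgroup.centralizer ((P : Subgroup G) : Set G) ∧ ¬ 2 ∣ orderOf y := by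
  classical
  have : Fact (Nat.Prime 2) := ⟨Nat.prime_two⟩
  let C := Subgroup.centralizer ((P : Subgroup G) : Set G)
  obtain ⟨T⟩ : Nonempty (Sylow 2 C) := inferInstance
  have hT : (T : Subgroup C) ≤ Subgroup.center C := by
    intro t ht
    have h1 : (t : G) ∈ (P : Subgroup G) := by
      obtain ⟨k, hk⟩ := T.2 ⟨t, ht⟩
      have h2 : (t : G) ^ 2 ^ k = 1 := by
        have := congrArg (fun z : (T : Subgroup C) => ((z : C) : G)) hk
        simpa using this
      exact mem_of_normalizes (Subgroup.centralizer_le_normalizer _ t.2) h2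
    rw [Subgroup.mem_center_iff]
    intro c
    refine Subtype.ext ?_
    exact (Subgroup.mem_centralizer_iff.1 c.2 t h1).symm
  obtain ⟨Y', -, -, hY'c, hY'⟩ := Cfsg.Agent.Blocks.CentralSylow.exists_complement T hT
  refine ⟨Y'.map C.subtype, ?_, fun y => ?_⟩
  · rw [Subgroup.card_map_of_injective C.subtype_injective]
    exact (Nat.Prime.coprime_iff_not_dvd Nat.prime_two).1 hY'c.symm
  · constructor
    · rintro ⟨c, hc, rfl⟩
      refine ⟨c.2, ?_⟩
      have := (hY' c).1 hc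
      rwa [show orderOf (C.subtype c) = orderOf c from
        orderOf_injective C.subtype C.subtype_injective c]
    · rintro ⟨h1, h2⟩
      refine ⟨⟨y, h1⟩, (hY' _).2 ?_, rfl⟩
      rwa [Subgroup.orderOf_mk]

/-- the elements of odd order of `C_G(P)` lie in the core if `G = K N_G(P)` -/
theorem mem_core (hsup : pPrimeCore 2 G ⊔ Subgroup.normalizer ((P : Subgroup G) : Set G) = ⊤) {y : G}
    (hy : y ∈ Subgroup.centralizer ((P : Subgroup G) : Set G)) (hyo : ¬ 2 ∣ orderOf y) : y ∈ pPrimeCore 2 G := by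
  obtain ⟨Y, hYc, hY⟩ := exists_odd_cent P
  have hKn : (pPrimeCore 2 G).Normal := Lib.Cores.pPrimeCore_normal 2
  have hn : (pPrimeCore 2 G ⊔ Y).Normal := by
    rw [← Subgroup.normalizer_eq_top_iff, eq_top_iff, ← hsup]
    refine sup_le (le_trans le_sup_left Subgroup.le_normalizer) ?_
    refine le_trans ?_ (Subgroup.normalizer_inf_normalizer_le_normalizer_sup _ Y)
    refine le_inf ?_ ?_
    · rw [Subgroup.normalizer_eq_top_iff.2 hKn]
      exact le_top
    · have key : ∀ g ∈ Subgroup.normalizer ((P : Subgroup G) : Set G), ∀ y ∈ Y, g * y * g⁻¹ ∈ Y := by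
        intro g hg y hy
        rw [hY] at hy ⊢
        refine ⟨?_, ?_⟩
        · rw [Subgroup.mem_centralizer_iff]
          intro u hu
          have h1 : g⁻¹ * u * g ∈ (P : Subgroup G) := by
            have := (Subgroup.mem_normalizer_iff.1 (inv_mem hg) u).1 hu
            simpa using this
          have h2 := Subgroup.mem_centralizer_iff.1 hy.1 _ h1
          calc u * (g * y * g⁻¹) = g * (g⁻¹ * u * g * y) * g⁻¹ := by group
            _ = g * (y * (g⁻¹ * u * g)) * g⁻¹ := by rw [h2]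
            _ = g * y * g⁻¹ * u := by group
        · rw [show orderOf (g * y * g⁻¹) = orderOf y from (MulAut.conj g).orderOf_eq y]
          exact hy.2
      intro g hg
      rw [Subgroup.mem_normalizer_iff]
      intro y
      refine ⟨key g hg y, fun h => ?_⟩
      have := key g⁻¹ (inv_mem hg) _ h
      simpa [mul_assoc] using this
  have hc : (Nat.card (pPrimeCore 2 G ⊔ Y : Subgroup G)).Coprime 2 := by
    refine Nat.Coprime.coprime_dvd_left (Lib.Cores.card_sup_dvd _ _ hKn) (Nat.Coprime.mul_left ?_ ?_)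
    · exact Lib.Cores.pPrimeCore_coprime 2
    · exact ((Nat.Prime.coprime_iff_not_dvd Nat.prime_two).2 hYc).symm
  exact Lib.Cores.le_pPrimeCore hn hc (Subgroup.mem_sup_right ((hY y).2 ⟨hy, hyo⟩))

/-- an element whose odd part lies in a normal subgroup of odd index lies in it -/
theorem mem_of_odd_part {W H : Subgroup G} (hWn : W.Normal) (hW : ¬ 2 ∣ W.index)
    (h : ∀ y ∈ H, ¬ 2 ∣ orderOf y → y ∈ W) {x : G} (hx : x ∈ H) : x ∈ W := by
  obtain ⟨a, m, hm, hxm⟩ := Nat.exists_eq_two_pow_mul_odd (orderOf_pos x).ne'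
  have h1 : x ^ 2 ^ a ∈ W := by
    apply h _ (pow_mem hx _)
    rw [orderOf_pow_of_dvd (by positivity) (Dvd.intro _ hxm.symm), hxm,
      Nat.mul_div_cancel_left _ (by positivity)]
    exact hm.not_two_dvd_nat
  have h2 : x ^ W.index ∈ W := Subgroup.pow_index_mem W x
  have h3 : Nat.Coprime (2 ^ a) W.index :=
    Nat.Coprime.pow_left a ((Nat.Prime.coprime_iff_not_dvd Nat.prime_two).2 hW)
  have h4 := Nat.gcd_eq_gcd_ab (2 ^ a) W.index
  rw [h3, Nat.cast_one] at h4
  rw [← zpow_one x, h4, zpow_add, zpow_mul, zpow_mul, zpow_natCast, zpow_natCast]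
  exact mul_mem (zpow_mem h1 _) (zpow_mem h2 _)

end

end Cfsg.Agent.H723.TI
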