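import Mathlib
import Cfsg.Agent.H723.TI.QGrp
import Cfsg.Agent.S4530
import Cfsg.Agent.S0908
import Cfsg.Agent.Blocks.PrimeNormal
import Cfsg.Agent.Blocks.PRegular
import Cfsg.Agent.Blocks.Over
import Cfsg.Agent.Blocks.Fong
import Cfsg.Agent.CharactersDeep.ExtUnique
import Cfsg.Agent.H672.Over

/-!
# 2-blocks of the groups `QH`: the rank is 1 or 3
-/

set_option autoImplicit false

namespace Cfsg.Agent.H723.TI

open Cfsg
open Cfsg.Agent.Blocks.Local

universe u

theorem mem_of_coprime_pow {X : Type u} [Group X] {W : Subgroup X} {x : X} {a b : ℕ} (hab : Nat.Coprime a b)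
    (ha : x ^ a ∈ W) (hb : x ^ b ∈ W) : x ∈ W := by
  have h4 := Nat.gcd_eq_gcd_ab a b
  rw [hab, Nat.cast_one] at h4
  rw [← zpow_one x, h4, zpow_add, zpow_mul, zpow_mul, zpow_natCast, zpow_natCast]
  exact mul_mem (zpow_mem ha _) (zpow_mem hb _)

variable {X : Type u} [Group X] [Finite X] {K P : Subgroup X} {n : ℕ} {M : Ideal AlgInt} {B : Set (IrrCharacter X)}

theorem QH.mem_K (h : QH K P n) {x : X} (hx : x ∈ K ⊔ P) (hxo : ¬ 2 ∣ orderOf x) : x ∈ K := by
  have := h.Kn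
  obtain ⟨k, hk, u, hu, rfl⟩ := Subgroup.mem_sup_of_normal_left.1 hx
  obtain ⟨a, ha⟩ := h.pP ⟨u, hu⟩
  have ha' : u ^ 2 ^ a = 1 := by simpa using congrArg Subtype.val ha
  refine mem_of_coprime_pow (a := 2 ^ a) (b := orderOf (k * u)) ?_ ?_ ?_
  · exact Nat.Coprime.pow_left a ((Nat.Prime.coprime_iff_not_dvd Nat.prime_two).2 hxo)
  · rw [← QuotientGroup.eq_one_iff]
    have h1 : ((k * u : X) : X ⧸ K) = (u : X ⧸ K) := by
      rw [QuotientGroup.mk_mul, (QuotientGroup.eq_one_iff k).2 hk, one_mul]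
    rw [QuotientGroup.mk_pow, h1, ← QuotientGroup.mk_pow, ha', QuotientGroup.mk_one]
  · rw [pow_orderOf_eq_one]
    exact one_mem _

theorem prop_K (hM : IsPModular 2 M) [hKn : K.Normal] (hK : ¬ 2 ∣ Nat.card K) (hB : IsPBlock M B)
    {χ χ' : IrrCharacter X} (hχ : χ ∈ B) (hχ' : χ' ∈ B) {k : X} (hk : k ∈ K) :
    (χ : X → ℂ) k * (χ' : X → ℂ) 1 = (χ' : X → ℂ) k * (χ : X → ℂ) 1 := by
  classical
  have := Fintype.ofFinite X
  have := Fintype.ofFinite K
  have : M.IsPrime := hM.2.1.isPrime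
  obtain ⟨θ, hθ⟩ := Blocks.Fong.exists_constituent K χ
  have h1 := Blocks.PrimeNormal.constituent_of_sameBlock hM K hK χ.2 χ'.2
    (Blocks.Basic.isPBlock_sameBlock hB hχ hχ') θ.2 hθ
  have h2 := Blocks.Over.centralChar_eq_of_over K χ.2 θ.2 hθ ⟨k, hk⟩
  have h3 := Blocks.Over.centralChar_eq_of_over K χ'.2 θ.2 h1 ⟨k, hk⟩
  rw [← h3] at h2
  unfold centralChar at h2
  have h4 : (χ : X → ℂ) 1 ≠ 0 := Blocks.CliffordCentral.irr_one_ne_zero χ
  have h5 : (χ' : X → ℂ) 1 ≠ 0 := Blocks.CliffordCentral.irr_one_ne_zero χ'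
  have h6 : ((Subgroup.centralizer ({k} : Set X)).index : ℂ) ≠ 0 := by
    exact_mod_cast Subgroup.index_ne_zero_of_finite
  have h7 : (χ : X → ℂ) k / (χ : X → ℂ) 1 = (χ' : X → ℂ) k / (χ' : X → ℂ) 1 := by
    rw [mul_div_assoc, mul_div_assoc] at h2
    exact mul_left_cancel₀ h6 h2
  rw [div_eq_div_iff h4 h5] at h7
  exact h7

/-- all members vanish on the elements of odd order outside `K P`: rank 1 -/
theorem QH.rank_one (h : QH K P n) (hM : IsPModular 2 M) (hB : IsPBlock M B)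
    (hv : ∀ χ ∈ B, ∀ x : X, x ∉ K ⊔ P → ¬ 2 ∣ orderOf x → (χ : X → ℂ) x = 0) : blockRank 2 B = 1 := by
  have := h.Kn
  have : M.IsPrime := hM.2.1.isPrime
  obtain ⟨χ₀, hχ₀⟩ := Blocks.Basic.isPBlock_nonempty hB
  have h1 : (χ₀ : X → ℂ) 1 ≠ 0 := Blocks.CliffordCentral.irr_one_ne_zero χ₀
  have key : ∀ χ ∈ B, pRegularPart 2 (χ : X → ℂ) = ((χ : X → ℂ) 1 / (χ₀ : X → ℂ) 1) • pRegularPart 2 (χ₀ : X → ℂ) := by
    intro χ hχ
    funext x
    simp only [Pi.smul_apply, smul_eq_mul]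
    unfold pRegularPart
    by_cases hx : IsPRegular 2 x
    · simp only [hx, if_true]
      by_cases hxW : x ∈ K ⊔ P
      · have h2 := prop_K hM h.Kodd hB hχ hχ₀ (h.mem_K hxW hx)
        field_simp
        linear_combination h2
      · rw [hv χ hχ x hxW hx, hv χ₀ hχ₀ x hxW hx, mul_zero]
    · simp [hx]
  unfold blockRank
  have hspan : Submodule.span ℂ ((fun χ : IrrCharacter X => pRegularPart 2 (χ : X → ℂ)) '' B) =
      Submodule.span ℂ {pRegularPart 2 (χ₀ : X → ℂ)} := by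
    apply le_antisymm
    · rw [Submodule.span_le]
      rintro _ ⟨χ, hχ, rfl⟩
      have h2 := key χ hχ
      simp only [SetLike.mem_coe]
      rw [h2]
      exact Submodule.smul_mem _ _ (Submodule.subset_span rfl)
    · rw [Submodule.span_le, Set.singleton_subset_iff]
      exact Submodule.subset_span ⟨χ₀, hχ₀, rfl⟩
  rw [hspan, finrank_span_singleton]
  intro h0
  have h2 := congrFun h0 1
  unfold pRegularPart at h2
  have h3 : IsPRegular 2 (1 : X) := by unfold IsPRegular; rw [orderOf_one]; omega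
  simp only [h3, if_true] at h2
  exact h1 h2

theorem QH.card8 (h : QH K P 3) : Nat.card P = 8 := by
  obtain ⟨e⟩ := h.q
  have e' : P ≃* QuaternionGroup 2 := e
  rw [Nat.card_congr e'.toEquiv, Nat.card_eq_fintype_card, QuaternionGroup.card]

theorem QH.fact8 (h : QH K P 3) : (Nat.card X).factorization 2 = 3 := by
  have h1 := Subgroup.card_mul_index P
  rw [h.card8] at h1
  rw [← h1, show (8 : ℕ) = 2 ^ 3 by norm_num, Nat.factorization_mul (by norm_num) Subgroup.index_ne_zero_of_finite,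
    Nat.Prime.factorization_pow Nat.prime_two]
  simp [Nat.factorization_eq_zero_of_not_dvd h.sP]

/-- the degrees are not divisible by 4 -/
theorem QH.deg (h : QH K P 3) (hM : IsPModular 2 M) (hB : IsPBlock M B) (hD : IsDefectGroup 2 M B P)
    {χ : IrrCharacter X} (hχ : χ ∈ B) : ¬ 4 ∣ charDegree (χ : X → ℂ) := by
  have : Fact (Nat.Prime 2) := ⟨Nat.prime_two⟩
  have h1 := Cfsg.Agent.S0908.result 2 M hM B hB P hD
  rw [h.card8] at h1
  have h2 : blockDefect 2 B = 3 := by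
    have : (2 : ℕ) ^ 3 = 2 ^ blockDefect 2 B := by rw [← h1]; norm_num
    exact (Nat.pow_right_injective (le_refl 2) this).symm
  rw [Blocks.Basic.blockDefect_def, h.fact8] at h2
  have h3 := (Cfsg.Agent.S4530.result M hM B hB P hD 3 le_rfl h.q).2.2.2.2.1 χ hχ
  rw [Blocks.Basic.blockHeight_def] at h3
  have h4 : (charDegree (χ : X → ℂ)).factorization 2 ≤ 1 := by omega
  intro h5
  have h6 : charDegree (χ : X → ℂ) ≠ 0 := by
    intro h0
    have h7 := Cfsg.Agent.H672.coe_charDegree χ.2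
    rw [h0, Nat.cast_zero] at h7
    exact Blocks.CliffordCentral.irr_one_ne_zero χ h7.symm
  have h7 : 2 ≤ (charDegree (χ : X → ℂ)).factorization 2 := by
    rw [← Nat.Prime.pow_dvd_iff_le_factorization Nat.prime_two h6]
    exact h5
  omega

/-- central characters at elements of odd order outside `K P` -/
theorem QH.central_mem (h : QH K P 3) (hM : IsPModular 2 M)
    {χ : X → ℂ} (hχ : IsIrrCharacter X χ) (hd : ¬ 4 ∣ charDegree χ) {x : X}
    (hx4 : ¬ 4 ∣ Nat.card (Subgroup.centralizer ({x} : Set X))) : MemLocalIdeal M (centralChar χ x) := by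
  have : M.IsPrime := hM.2.1.isPrime
  have h1 : 4 ∣ (Subgroup.centralizer ({x} : Set X)).index := by
    have h2 := Subgroup.card_mul_index (Subgroup.centralizer ({x} : Set X))
    have h3 : (Nat.card (Subgroup.centralizer ({x} : Set X))).factorization 2 ≤ 1 := by
      by_contra h4
      push Not at h4
      exact hx4 ((Nat.Prime.pow_dvd_iff_le_factorization Nat.prime_two Nat.card_pos.ne').2 h4)
    have h4 : (Nat.card (Subgroup.centralizer ({x} : Set X)) *
        (Subgroup.centralizer ({x} : Set X)).index).factorization 2 = (Nat.card X).factorization 2 := by rw [h2]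
    rw [Nat.factorization_mul Nat.card_pos.ne' Subgroup.index_ne_zero_of_finite, Finsupp.add_apply, h.fact8] at h4
    have h5 : 2 ≤ ((Subgroup.centralizer ({x} : Set X)).index).factorization 2 := by omega
    exact (Nat.Prime.pow_dvd_iff_le_factorization Nat.prime_two Subgroup.index_ne_zero_of_finite).2 h5
  obtain ⟨c, hc⟩ := h1
  have hdeg := Cfsg.Agent.H672.coe_charDegree hχ
  have hχx : MemLocalRing M (χ x) := memLocalRing_of_isIntegral (Blocks.Central.isIntegral_irr hχ x)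
  have h2 : ∃ (e d : ℕ), charDegree χ = e * d ∧ ¬ 2 ∣ d ∧ (e = 1 ∨ e = 2) := by
    by_cases h3 : 2 ∣ charDegree χ
    · obtain ⟨d, hd'⟩ := h3
      refine ⟨2, d, hd', ?_, Or.inr rfl⟩
      rintro ⟨d', rfl⟩
      exact hd ⟨d', by rw [hd']; ring⟩
    · exact ⟨1, charDegree χ, (one_mul _).symm, h3, Or.inl rfl⟩
  obtain ⟨e, d, hed, hd2, he⟩ := h2
  have hd0 : (d : ℂ) ≠ 0 := by
    have : d ≠ 0 := by rintro rfl; exact hd2 (dvd_zero 2)
    exact_mod_cast this
  have h3 : ∃ m : ℕ, (2 : ℕ) ∣ m ∧ centralChar χ x = (m : ℂ) * (((d : ℂ))⁻¹ * χ x) := by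
    unfold centralChar
    rw [hc, ← hdeg, hed]
    rcases he with rfl | rfl
    · refine ⟨4 * c, ⟨2 * c, by ring⟩, ?_⟩
      push_cast
      field_simp
    · refine ⟨2 * c, ⟨c, rfl⟩, ?_⟩
      push_cast
      field_simp
      ring
  obtain ⟨m, hm, h4⟩ := h3
  rw [h4]
  exact memLocalIdeal_mul_right ((memLocalIdeal_natCast_iff hM m).2 hm)
    (memLocalRing_mul (memLocalRing_inv_natCast hM hd2) hχx)

end Cfsg.Agent.H723.TI
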