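import Mathlib
import Cfsg.Agent.H723.TI.QBlk
import Cfsg.Agent.S0886
import Cfsg.Agent.H743.LSIndex
import Cfsg.Agent.H669.OverCount
import Cfsg.Agent.CharDeep.CliffordCorr
import Cfsg.Agent.CharactersDeep.NormalInd

/-!
# 2-blocks of the groups `QH`, II: rank 3, invariant and non-invariant characters of `K`
-/

set_option autoImplicit false

namespace Cfsg.Agent.H723.TI

open Cfsg
open Cfsg.Agent.Blocks.Local
open scoped ComplexConjugate

universe u

variable {X : Type u} [Group X] [Finite X] {K P : Subgroup X} {n : ℕ} {M : Ideal AlgInt} {B : Set (IrrCharacter X)}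

/-- a linear character with kernel containing `W` -/
theorem exists_lam {W : Subgroup X} (hW : W.Normal) (hidx : W.index = 3) {x : X} (hx : x ∉ W) :
    ∃ l : X →* ℂˣ, l x ≠ 1 ∧ ∀ y ∈ W, l y = 1 := by
  have : Fact (Nat.Prime 3) := ⟨Nat.prime_three⟩
  have hc : Nat.card (X ⧸ W) = 3 := hidx
  have hcyc : IsCyclic (X ⧸ W) := isCyclic_of_prime_card hc
  have hcomm : ∀ a b : X ⧸ W, a * b = b * a := by
    intro a b
    obtain ⟨g, hg⟩ := hcyc.exists_generator
    obtain ⟨i, rfl⟩ := Subgroup.mem_zpowers_iff.1 (hg a)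
    obtain ⟨j, rfl⟩ := Subgroup.mem_zpowers_iff.1 (hg b)
    rw [← zpow_add, ← zpow_add, add_comm]
  have ht : (x : X ⧸ W) ∉ (⊥ : Subgroup (X ⧸ W)) := by
    rw [Subgroup.mem_bot, QuotientGroup.eq_one_iff]
    exact hx
  obtain ⟨l, hl, -⟩ := H743.LSIndex.exists_char hcomm ⊥ ht
  refine ⟨l.comp (QuotientGroup.mk' W), hl, fun y hy => ?_⟩
  rw [MonoidHom.comp_apply, QuotientGroup.mk'_apply, (QuotientGroup.eq_one_iff y).2 hy, map_one]

/-- the twist -/
noncomputable def tw (l : X →* ℂˣ) (χ : IrrCharacter X) : IrrCharacter X :=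
  ⟨fun g => (χ : X → ℂ) g * l g, CharactersDeep.ExtUnique.isIrr_mul_hom χ.2 l⟩

omit [Finite X] in
theorem tw_apply (l : X →* ℂˣ) (χ : IrrCharacter X) (g : X) : (tw l χ : X → ℂ) g = (χ : X → ℂ) g * l g := rfl

omit [Finite X] in
theorem tw_deg (l : X →* ℂˣ) (χ : IrrCharacter X) : charDegree (tw l χ : X → ℂ) = charDegree (χ : X → ℂ) := by
  unfold charDegree
  rw [tw_apply, map_one]
  simp

/-- twists by characters of `X / K P` stay in the block -/
theorem QH.twist_mem (h : QH K P 3) (h4 : ∀ x : X, x ∉ K ⊔ P → ¬ 2 ∣ orderOf x →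
    ¬ 4 ∣ Nat.card (Subgroup.centralizer ({x} : Set X))) (hM : IsPModular 2 M) (hB : IsPBlock M B)
    (hD : IsDefectGroup 2 M B P) {χ : IrrCharacter X} (hχ : χ ∈ B) {l : X →* ℂˣ} (hl : ∀ y ∈ K ⊔ P, l y = 1) :
    tw l χ ∈ B := by
  have := Fintype.ofFinite X
  have : Fact (Nat.Prime 2) := ⟨Nat.prime_two⟩
  have : M.IsPrime := hM.2.1.isPrime
  refine Blocks.Basic.isPBlock_mem_of_sameBlock hB hχ ?_
  refine Blocks.PRegular.sameBlock_of_isPRegular hM χ.2 (tw l χ).2 ?_
  intro g hg
  have hd := h.deg hM hB hD hχ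
  by_cases hgW : g ∈ K ⊔ P
  · have h1 : centralChar (tw l χ : X → ℂ) g = centralChar (χ : X → ℂ) g := by
      unfold centralChar
      rw [tw_apply, tw_apply, hl g hgW, map_one]
      simp
    rw [h1, sub_self]
    exact memLocalIdeal_zero
  · exact memLocalIdeal_sub (h.central_mem hM χ.2 hd (h4 g hgW hg))
      (h.central_mem hM (tw l χ).2 (by rw [tw_deg]; exact hd) (h4 g hgW hg))

/-- some member does not vanish at some element of odd order outside `K P`: rank 3 -/
theorem QH.rank_three (h : QH K P n) (hM : IsPModular 2 M) (hB : IsPBlock M B)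
    (hD : IsDefectGroup 2 M B P) {χ : IrrCharacter X} (hχ : χ ∈ B) {x : X} (hx : x ∉ K ⊔ P) (hxo : ¬ 2 ∣ orderOf x)
    (hχx : (χ : X → ℂ) x ≠ 0) : blockRank 2 B = 3 := by
  have := Fintype.ofFinite X
  rcases h.idx with h1 | ⟨h1, rfl, h4⟩
  · exact absurd (by rw [Subgroup.index_eq_one.1 h1]; trivial) hx
  refine le_antisymm (Cfsg.Agent.S4530.result M hM B hB P hD 3 le_rfl h.q).2.1 ?_
  obtain ⟨l, hlx, hl⟩ := exists_lam h.Gn h1 hx
  have hm1 := h.twist_mem h4 hM hB hD hχ hl
  have hm2 := h.twist_mem h4 hM hB hD hm1 hl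
  -- the value at `x`
  have hGn := h.Gn
  have hx3 : x ^ 3 ∈ K ⊔ P := by
    have := Subgroup.pow_index_mem (K ⊔ P) x
    rwa [h1] at this
  have hw3 : ((l x : ℂˣ) : ℂ) ^ 3 = 1 := by
    rw [← Units.val_pow_eq_pow_val, ← map_pow, hl _ hx3, Units.val_one]
  set w : ℂ := ((l x : ℂˣ) : ℂ) with hw
  have hw1 : w ≠ 1 := by
    intro h2
    exact hlx (Units.ext h2)
  have hw2 : 1 + w + w ^ 2 = 0 := by
    have h2 : (w - 1) * (1 + w + w ^ 2) = 0 := by linear_combination hw3
    rcases mul_eq_zero.1 h2 with h3 | h3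
    · exact absurd (sub_eq_zero.1 h3) hw1
    · exact h3
  have hw0 : w ≠ 0 := by
    rintro h2
    rw [h2] at hw3
    norm_num at hw3
  -- the values at the inverse
  have hinv : ((l x⁻¹ : ℂˣ) : ℂ) = w ^ 2 := by
    rw [map_inv, Units.val_inv_eq_inv_val, ← hw]
    field_simp
    linear_combination -hw3
  have hχx' : (χ : X → ℂ) x⁻¹ ≠ 0 := by
    rw [Blocks.Orthogonality.irr_apply_inv χ.2]
    simpa using hχx
  have hχ1 : (χ : X → ℂ) 1 ≠ 0 := Blocks.CliffordCentral.irr_one_ne_zero χ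
  have hr1 : IsPRegular 2 (1 : X) := by unfold IsPRegular; rw [orderOf_one]; omega
  have hrx : IsPRegular 2 x := hxo
  have hrx' : IsPRegular 2 x⁻¹ := by unfold IsPRegular; rwa [orderOf_inv]
  let v : Fin 3 → (X → ℂ) := ![pRegularPart 2 (χ : X → ℂ), pRegularPart 2 (tw l χ : X → ℂ),
    pRegularPart 2 (tw l (tw l χ) : X → ℂ)]
  have hv : LinearIndependent ℂ v := by
    rw [Fintype.linearIndependent_iff]
    intro g hg
    rw [Fin.sum_univ_three] at hg
    have e1 := congrFun hg 1
    have e2 := congrFun hg x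
    have e3 := congrFun hg x⁻¹
    simp only [v, Matrix.cons_val_zero, Matrix.cons_val_one, Matrix.cons_val_two, Matrix.tail_cons, Matrix.head_cons,
      Pi.add_apply, Pi.smul_apply, Pi.zero_apply, smul_eq_mul, pRegularPart, hr1, hrx, hrx', if_true, tw_apply,
      map_one, Units.val_one, mul_one, hinv, ← hw] at e1 e2 e3
    have f1 : g 0 + g 1 + g 2 = 0 := by
      have : (χ : X → ℂ) 1 * (g 0 + g 1 + g 2) = 0 := by linear_combination e1
      exact (mul_eq_zero.1 this).resolve_left hχ1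
    have f2 : g 0 + g 1 * w + g 2 * w ^ 2 = 0 := by
      have : (χ : X → ℂ) x * (g 0 + g 1 * w + g 2 * w ^ 2) = 0 := by linear_combination e2
      exact (mul_eq_zero.1 this).resolve_left hχx
    have f3 : g 0 + g 1 * w ^ 2 + g 2 * w ^ 4 = 0 := by
      have : (χ : X → ℂ) x⁻¹ * (g 0 + g 1 * w ^ 2 + g 2 * w ^ 4) = 0 := by linear_combination e3
      exact (mul_eq_zero.1 this).resolve_left hχx'
    have g0 : g 0 = 0 := by
      have : 3 * g 0 = 0 := by
        linear_combination f1 + f2 + f3 - (g 1) * hw2 - (g 2) * hw2 - (g 2) * w * hw3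
      simpa using this
    have g1 : g 1 = 0 := by
      have h5 : g 1 * (w * (1 - w)) = 0 := by linear_combination f2 - w ^ 2 * f1 - (1 - w ^ 2) * g0
      rcases mul_eq_zero.1 h5 with h6 | h6
      · exact h6
      · rcases mul_eq_zero.1 h6 with h7 | h7
        · exact absurd h7 hw0
        · exact absurd (sub_eq_zero.1 h7).symm hw1
    have g2 : g 2 = 0 := by linear_combination f1 - g0 - g1
    intro i
    fin_cases i
    · exact g0
    · exact g1
    · exact g2
  unfold blockRank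
  have h5 := finrank_span_eq_card hv
  rw [Fintype.card_fin] at h5
  rw [← h5]
  refine Submodule.finrank_mono (Submodule.span_mono ?_)
  rintro _ ⟨i, rfl⟩
  fin_cases i
  · exact ⟨χ, hχ, rfl⟩
  · exact ⟨_, hm1, rfl⟩
  · exact ⟨_, hm2, rfl⟩

/-- the inertia group -/
def inr (K : Subgroup X) [K.Normal] (θ : K → ℂ) : Subgroup X where
  carrier := {g | ∀ k : K, θ (MulAut.conjNormal g k) = θ k}
  mul_mem' := by
    intro a b ha hb k
    rw [map_mul, MulAut.mul_apply, ha, hb]
  one_mem' := by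
    intro k
    rw [map_one, MulAut.one_apply]
  inv_mem' := by
    intro a ha k
    have h := ha (MulAut.conjNormal a⁻¹ k)
    rw [← MulAut.mul_apply, ← map_mul, mul_inv_cancel, map_one, MulAut.one_apply] at h
    exact h.symm

omit [Finite X] in
theorem mem_inr [K.Normal] {θ : K → ℂ} {g : X} : g ∈ inr K θ ↔ ∀ k : K, θ (MulAut.conjNormal g k) = θ k := Iff.rfl

/-- `θ` not invariant: the characters over `θ` vanish outside `K P` -/
theorem QH.vanish (h : QH K P n) [hKn : K.Normal] (hidx : (K ⊔ P).index = 3) {θ : K → ℂ} (hθ : IsIrrCharacter K θ)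
    (hP : P ≤ inr K θ) (hni : inr K θ ≠ ⊤) [Fintype K] {χ : X → ℂ} (hχ : IsIrrCharacter X χ)
    (ho : classInner (fun k : K => χ k) θ ≠ 0) {x : X} (hx : x ∉ K ⊔ P) : χ x = 0 := by
  classical
  have := Fintype.ofFinite X
  have := Fintype.ofFinite (K ⊔ P : Subgroup X)
  have hGn := h.Gn
  have hle : K ⊔ P ≤ inr K θ := by
    refine sup_le ?_ hP
    intro k hk k'
    exact Cfsg.Agent.Characters.Core.isIrr_isClassFunction hθ k' ⟨k, hk⟩
  have heq : inr K θ = K ⊔ P := by
    have h1 : (inr K θ).index ∣ 3 := hidx ▸ Subgroup.index_dvd_of_le hle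
    have h2 : (inr K θ).index = 3 := by
      rcases (Nat.dvd_prime Nat.prime_three).1 h1 with h3 | h3
      · exact absurd (Subgroup.index_eq_one.1 h3) hni
      · exact h3
    have h3 := Subgroup.relIndex_mul_index hle
    rw [h2, hidx] at h3
    have h4 : (K ⊔ P).relIndex (inr K θ) = 1 := by omega
    exact le_antisymm (Subgroup.relIndex_eq_one.1 h4) hle
  obtain ⟨ψ, -, hψ, -⟩ := CharDeep.CliffordCorr.clifford_correspondence K θ hθ (K ⊔ P)
    (fun g => by rw [← heq, mem_inr]; rfl) le_sup_left χ hχ ho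
  rw [← hψ]
  exact CharactersDeep.NormalInd.indFun_of_not_mem (K ⊔ P) ψ hx

/-- extension to a cyclic overgroup -/
theorem exists_ext' {A C : Type*} [Group A] [Group C] [Finite C] (m : A →* C) (hm : Function.Injective m)
    (hn : m.range.Normal) (hc : IsCyclic (C ⧸ m.range)) {θ : A → ℂ} (hθ : IsIrrCharacter A θ)
    (hinv : ∀ (g : C) (a a' : A), m a' = g * m a * g⁻¹ → θ a' = θ a) : ∃ η : C → ℂ, IsIrrCharacter C η ∧ η ∘ m = θ := by
  let e : A ≃* m.range := MonoidHom.ofInjective hm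
  have he : ∀ x : m.range, m (e.symm x) = x := fun x => congrArg Subtype.val (e.apply_symm_apply x)
  have h1 : IsIrrCharacter m.range (θ ∘ e.symm) :=
    Cfsg.Agent.Characters.Core.isIrr_comp (e.symm : m.range →* A) e.symm.surjective hθ
  obtain ⟨η, hη, hηe⟩ := Cfsg.Agent.S0886.result m.range hc (θ ∘ e.symm) h1 (by
    intro g n
    exact hinv g _ _ (by rw [he, he]))
  refine ⟨η, hη, ?_⟩
  funext a
  have h2 := hηe (e a)
  rw [Function.comp_apply, e.symm_apply_apply] at h2
  rw [← h2]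
  rfl

theorem QH.inf_bot (h : QH K P n) : K ⊓ P = ⊥ := by
  rw [eq_bot_iff]
  rintro x ⟨hxK, hxP⟩
  obtain ⟨k, hk⟩ := h.pP ⟨x, hxP⟩
  have h2 : x ^ 2 ^ k = 1 := by simpa using congrArg Subtype.val hk
  have h3 : orderOf x ∣ Nat.card K := by
    have := orderOf_dvd_natCard (⟨x, hxK⟩ : K)
    rwa [Subgroup.orderOf_mk] at this
  have h5 : Nat.Coprime (Nat.card K) (2 ^ k) :=
    Nat.Coprime.pow_right k ((Nat.Prime.coprime_iff_not_dvd Nat.prime_two).2 h.Kodd).symm
  have h6 := Nat.dvd_gcd h3 (orderOf_dvd_of_pow_eq_one h2)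
  rw [h5] at h6
  exact orderOf_eq_one_iff.1 (Nat.dvd_one.1 h6)

theorem QH.K_index (h : QH K P 3) (hidx : (K ⊔ P).index = 3) : K.index = 24 := by
  have := h.Kn
  have h1 := Subgroup.relIndex_mul_index (show K ≤ K ⊔ P from le_sup_left)
  rw [Subgroup.relIndex_sup_left, ← Subgroup.inf_relIndex_right, h.inf_bot, Subgroup.relIndex_bot_left, h.card8,
    hidx] at h1
  omega

/-- `θ` invariant: some character over `θ` in the block does not vanish at some element of odd order outside `K P` -/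
theorem QH.nonvanish (h : QH K P 3) [hKn : K.Normal] (hidx : (K ⊔ P).index = 3) {θ : K → ℂ} (hθ : IsIrrCharacter K θ)
    (hinv : inr K θ = ⊤) [Fintype K] (hcov : ∀ χ ∈ B, classInner (fun k : K => (χ : X → ℂ) k) θ ≠ 0)
    (h5 : 5 ≤ Nat.card B) : ∃ χ ∈ B, ∃ x : X, x ∉ K ⊔ P ∧ ¬ 2 ∣ orderOf x ∧ (χ : X → ℂ) x ≠ 0 := by
  classical
  have : Fact (Nat.Prime 3) := ⟨Nat.prime_three⟩
  have := Fintype.ofFinite X
  have := Cfsg.Agent.Characters.Core.finite_irr (G := X)
  have := Fintype.ofFinite (IrrCharacter X)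
  by_contra hcon
  push Not at hcon
  have hWn := h.Gn
  -- an element of odd order outside `K P`
  obtain ⟨x, hx, hxo⟩ : ∃ x : X, x ∉ K ⊔ P ∧ ¬ 2 ∣ orderOf x := by
    by_contra hno
    push Not at hno
    have h1 : K ⊔ P = ⊤ := by
      rw [eq_top_iff]
      intro g _
      refine mem_of_odd_part hWn (by rw [hidx]; omega) (H := ⊤) ?_ (Subgroup.mem_top g)
      intro y _ hy
      by_contra hyW
      exact hy (hno y hyW)
    rw [h1, Subgroup.index_top] at hidx
    omega
  set L : Subgroup X := K ⊔ Subgroup.zpowers x with hL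
  have hKL : K ≤ L := le_sup_left
  have hLo : ¬ 2 ∣ Nat.card L := by
    intro h2
    have h3 := h2.trans (Lib.Cores.card_sup_dvd K (Subgroup.zpowers x) hKn)
    rw [Nat.card_zpowers] at h3
    rcases (Nat.Prime.dvd_mul Nat.prime_two).1 h3 with h4 | h4
    · exact h.Kodd h4
    · exact hxo h4
  have hLodd : ∀ y ∈ L, ¬ 2 ∣ orderOf y := by
    intro y hy h2
    apply hLo
    refine h2.trans ?_
    have := orderOf_dvd_natCard (⟨y, hy⟩ : L)
    rwa [Subgroup.orderOf_mk] at this
  have hLW : ∀ y ∈ L, y ∉ K → y ∉ K ⊔ P := fun y hy hyK hyW => hyK (h.mem_K hyW (hLodd y hy))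
  have hrel : K.relIndex L = 3 := by
    have h1 : K ⊓ L = (K ⊔ P) ⊓ L := by
      apply le_antisymm
      · exact inf_le_inf_right _ le_sup_left
      · rintro y ⟨hyW, hyL⟩
        refine ⟨?_, hyL⟩
        by_contra hyK
        exact hLW y hyL hyK hyW
    have h2 : L ⊔ (K ⊔ P) = ⊤ := by
      have h3 : (L ⊔ (K ⊔ P)).index ∣ 3 := hidx ▸ Subgroup.index_dvd_of_le le_sup_right
      rcases (Nat.dvd_prime Nat.prime_three).1 h3 with h4 | h4
      · exact Subgroup.index_eq_one.1 h4
      · exfalso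
        have h6 := Subgroup.relIndex_mul_index (show K ⊔ P ≤ L ⊔ (K ⊔ P) from le_sup_right)
        rw [h4, hidx] at h6
        have h7 : (K ⊔ P).relIndex (L ⊔ (K ⊔ P)) = 1 := by omega
        exact hx (Subgroup.relIndex_eq_one.1 h7
          (Subgroup.mem_sup_left (Subgroup.mem_sup_right (Subgroup.mem_zpowers x))))
    rw [← Subgroup.inf_relIndex_right, h1, Subgroup.inf_relIndex_right, ← Subgroup.relIndex_sup_right, h2,
      Subgroup.relIndex_top_right, hidx]
  have hcardL : Nat.card L = 3 * Nat.card K := by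
    have h1 := Subgroup.relIndex_mul_relIndex ⊥ K L bot_le hKL
    rw [Subgroup.relIndex_bot_left, Subgroup.relIndex_bot_left, hrel] at h1
    omega
  -- the extension
  let m : K →* L := Subgroup.inclusion hKL
  have hm : Function.Injective m := Subgroup.inclusion_injective hKL
  have hrange : m.range = K.subgroupOf L := Subgroup.inclusion_range hKL
  have hmn : m.range.Normal := by rw [hrange]; infer_instance
  have hcyc : IsCyclic (L ⧸ m.range) := by
    apply isCyclic_of_prime_card (p := 3)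
    change m.range.index = 3
    rw [hrange]
    exact hrel
  obtain ⟨η, hη, hηm⟩ := exists_ext' m hm hmn hcyc hθ (by
    intro g a a' haa
    have h1 : (g : X) ∈ inr K θ := by rw [hinv]; trivial
    have h2 := h1 a
    rw [← h2]
    congr 1
    exact Subtype.ext (congrArg (Subtype.val : L → X) haa))
  have h3 : ∀ χ ∈ B, ∃ a : ℕ, classInner (fun k : K => (χ : X → ℂ) k) θ = (3 * a : ℕ) := by
    intro χ hχ
    obtain ⟨a, ha⟩ := Cfsg.Agent.Characters.Core.classInner_isNat
      (Cfsg.Agent.Characters.Clifford.isCharacter_restrict L (Cfsg.Agent.Characters.Core.isIrr_isCharacter χ.2))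
      (Cfsg.Agent.Characters.Core.isIrr_isCharacter hη)
    refine ⟨a, ?_⟩
    rw [Cfsg.Agent.Characters.Core.classInner_def] at ha ⊢
    have hsum : ∑ y : L, (χ : X → ℂ) y * conj (η y) = ∑ k : K, (χ : X → ℂ) k * conj (θ k) := by
      rw [← Finset.sum_subset (Finset.subset_univ (Finset.univ.map ⟨m, hm⟩))]
      · rw [Finset.sum_map]
        refine Finset.sum_congr rfl fun k _ => ?_
        rw [← hηm]
        rfl
      · intro y _ hy
        have hyK : (y : X) ∉ K := by
          intro h6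
          apply hy
          rw [Finset.mem_map]
          exact ⟨⟨y, h6⟩, Finset.mem_univ _, rfl⟩
        rw [hcon χ hχ y (hLW y y.2 hyK) (hLodd y y.2), zero_mul]
    rw [hsum, hcardL] at ha
    have hK0 : (Nat.card K : ℂ) ≠ 0 := by exact_mod_cast Nat.card_pos.ne'
    push_cast at ha ⊢
    rw [← ha]
    field_simp
  obtain ⟨e, he, -, hsq⟩ := H669.OverCount.sum_sq_over K hθ (fun g n => by
    have h1 : g ∈ inr K θ := by rw [hinv]; trivial
    exact h1 n)
  rw [h.K_index hidx] at hsq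
  have h6 : ∀ χ ∈ B, 9 ≤ e χ ^ 2 := by
    intro χ hχ
    obtain ⟨a, ha⟩ := h3 χ hχ
    rw [he] at ha
    have h7 : e χ = 3 * a := by exact_mod_cast ha
    have h8 : e χ ≠ 0 := by
      intro h0
      apply hcov χ hχ
      rw [he, h0, Nat.cast_zero]
    have h9 : 1 ≤ a := by
      rcases Nat.eq_zero_or_pos a with h10 | h10
      · rw [h10] at h7; omega
      · exact h10
    rw [h7]
    nlinarith
  have h7 : ∑ χ ∈ Finset.univ.filter (· ∈ B), 9 ≤ ∑ χ : IrrCharacter X, e χ ^ 2 := by
    refine le_trans (Finset.sum_le_sum (fun χ hχ => h6 χ (Finset.mem_filter.1 hχ).2)) ?_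
    exact Finset.sum_le_sum_of_subset (Finset.filter_subset _ _)
  rw [hsq, Finset.sum_const, smul_eq_mul] at h7
  have h8 : (Finset.univ.filter (· ∈ B)).card = Nat.card B := by
    rw [Nat.card_eq_fintype_card, ← Fintype.card_subtype]
  rw [h8] at h7
  omega

end Cfsg.Agent.H723.TI
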