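import Cfsg.Agent.H723.TI.QGrp

/-!
# Groups with a generalised quaternion TI Sylow 2-subgroup, II
-/

set_option autoImplicit false

namespace Cfsg.Agent.H723.TI

open Cfsg
open scoped Pointwise

universe u

variable {G : Type u} [Group G] [Finite G] {P : Sylow 2 G} {z : G}

theorem W_normal (hsup : pPrimeCore 2 G ⊔ Subgroup.normalizer ((P : Subgroup G) : Set G) = ⊤) :
    (pPrimeCore 2 G ⊔ (P : Subgroup G)).Normal := by
  have hKn : (pPrimeCore 2 G).Normal := Lib.Cores.pPrimeCore_normal 2
  rw [← Subgroup.normalizer_eq_top_iff, eq_top_iff, ← hsup]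
  refine sup_le (le_trans le_sup_left Subgroup.le_normalizer) ?_
  refine le_trans ?_ (Subgroup.normalizer_inf_normalizer_le_normalizer_sup _ _)
  refine le_inf ?_ le_rfl
  rw [Subgroup.normalizer_eq_top_iff.2 hKn]
  exact le_top

theorem W_odd : ¬ 2 ∣ (pPrimeCore 2 G ⊔ (P : Subgroup G)).index := by
  have : Fact (Nat.Prime 2) := ⟨Nat.prime_two⟩
  intro h
  exact P.not_dvd_index (h.trans (Subgroup.index_dvd_of_le le_sup_right))

/-- the automorphism induced by an element of odd order has odd order -/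
theorem phi_pow (y : Subgroup.normalizer ((P : Subgroup G) : Set G)) :
    ((P : Subgroup G).normalizerMonoidHom y) ^ orderOf (y : G) = 1 := by
  rw [← map_pow]
  have : y ^ orderOf (y : G) = 1 := by
    rw [Subgroup.orderOf_coe]; exact pow_orderOf_eq_one y
  rw [this, map_one]

theorem mem_cent_of_phi {y : Subgroup.normalizer ((P : Subgroup G) : Set G)}
    (h : (P : Subgroup G).normalizerMonoidHom y = 1) : (y : G) ∈ Subgroup.centralizer ((P : Subgroup G) : Set G) := by
  have h1 : y ∈ ((P : Subgroup G).normalizerMonoidHom).ker := h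
  rw [Subgroup.normalizerMonoidHom_ker] at h1
  exact h1

/-- order at least 16: `G = K P` -/
theorem index_one (hsup : pPrimeCore 2 G ⊔ Subgroup.normalizer ((P : Subgroup G) : Set G) = ⊤) {k : ℕ} (hk : 2 ≤ k)
    (e : (P : Subgroup G) ≃* QuaternionGroup (2 ^ k)) : (pPrimeCore 2 G ⊔ (P : Subgroup G)).index = 1 := by
  rw [Subgroup.index_eq_one, eq_top_iff, ← hsup]
  refine sup_le le_sup_left ?_
  intro x hx
  refine mem_of_odd_part (W_normal hsup) W_odd (H := Subgroup.normalizer ((P : Subgroup G) : Set G)) ?_ hx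
  intro y hy hyo
  have h1 : (P : Subgroup G).normalizerMonoidHom ⟨y, hy⟩ = 1 := by
    refine LFourB.ProdAut.eq_one_of_odd' hk e _ (n := orderOf y) ?_ (phi_pow ⟨y, hy⟩)
    exact Nat.odd_iff.2 (by omega)
  exact Subgroup.mem_sup_left (mem_core hsup (mem_cent_of_phi h1) hyo)

/-- order 8: `|G : K P| = 1` or `3` -/
theorem index_eight (hsup : pPrimeCore 2 G ⊔ Subgroup.normalizer ((P : Subgroup G) : Set G) = ⊤)
    (e : (P : Subgroup G) ≃* QuaternionGroup 2) : (pPrimeCore 2 G ⊔ (P : Subgroup G)).index = 1 ∨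
      (pPrimeCore 2 G ⊔ (P : Subgroup G)).index = 3 := by
  have hWn := W_normal hsup
  have hWo := W_odd (P := P)
  set W := pPrimeCore 2 G ⊔ (P : Subgroup G) with hW
  set N := Subgroup.normalizer ((P : Subgroup G) : Set G) with hN
  have hC : Subgroup.centralizer ((P : Subgroup G) : Set G) ≤ W := by
    intro y hy
    refine mem_of_odd_part hWn hWo (H := Subgroup.centralizer ((P : Subgroup G) : Set G)) ?_ hy
    intro y hy hyo
    exact Subgroup.mem_sup_left (mem_core hsup hy hyo)
  have h1 : W.index = W.relIndex N := by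
    have h2 : N ⊔ W = ⊤ := by
      rw [eq_top_iff, ← hsup]
      exact sup_le (le_trans le_sup_left le_sup_right) le_sup_left
    rw [← Subgroup.relIndex_sup_right, h2, Subgroup.relIndex_top_right]
  have h3 : W.relIndex N ∣ (Subgroup.centralizer ((P : Subgroup G) : Set G)).relIndex N :=
    Subgroup.relIndex_dvd_of_le_left N hC
  have h4 : (Subgroup.centralizer ((P : Subgroup G) : Set G)).relIndex N ∣ 24 := by
    have h5 : (Subgroup.centralizer ((P : Subgroup G) : Set G)).relIndex N =
        ((P : Subgroup G).normalizerMonoidHom).ker.index := by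
      rw [Subgroup.normalizerMonoidHom_ker]; rfl
    have h6 : Nat.card (MulAut (P : Subgroup G)) = 24 := by
      rw [Nat.card_congr (MulAut.congr e).toEquiv, PermutationGroups.AutQuaternion.card_mulAut]
    rw [h5, Subgroup.index_ker, ← h6]
    exact Subgroup.card_subgroup_dvd_card _
  have h7 : W.index ∣ 24 := h1 ▸ h3.trans h4
  have h8 : Nat.Coprime W.index 8 := by
    have : Nat.Coprime W.index (2 ^ 3) :=
      Nat.Coprime.pow_right 3 ((Nat.Prime.coprime_iff_not_dvd Nat.prime_two).2 hWo).symm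
    exact this
  have h9 : W.index ∣ 3 := h8.dvd_of_dvd_mul_left (by norm_num; exact h7)
  exact (Nat.dvd_prime Nat.prime_three).1 h9

/-- elements of `C_G(x)`, `x` of odd order outside `K P`, `|P| = 8` -/
theorem cent_four (h : QG P z) (hc : Nat.card (P : Subgroup G) = 8) {x : G}
    (hx : x ∉ pPrimeCore 2 G ⊔ (P : Subgroup G)) (hxo : ¬ 2 ∣ orderOf x) :
    ¬ 4 ∣ Nat.card (Subgroup.centralizer ({x} : Set G)) := by
  classical
  have : Fact (Nat.Prime 2) := ⟨Nat.prime_two⟩
  intro h4
  obtain ⟨R₀, hR₀⟩ := Sylow.exists_subgroup_card_pow_prime 2 (G := Subgroup.centralizer ({x} : Set G)) (n := 2)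
    (by simpa using h4)
  set R := R₀.map (Subgroup.centralizer ({x} : Set G)).subtype with hR
  have hRc : Nat.card R = 4 := by
    rw [hR, Subgroup.card_map_of_injective (Subgroup.subtype_injective _), hR₀]; norm_num
  have hRx : ∀ r ∈ R, x * r = r * x := by
    rintro _ ⟨r, -, rfl⟩
    exact (Subgroup.mem_centralizer_singleton_iff.1 r.2).symm
  have hRp : IsPGroup 2 R := IsPGroup.of_card (n := 2) (by rw [hRc]; norm_num)
  obtain ⟨Q, hQ⟩ := hRp.exists_le_sylow
  obtain ⟨g, hg⟩ := MulAction.exists_smul_eq G P Q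
  have hWn := W_normal h.sup_top
  -- move into `P`
  set x' := g⁻¹ * x * g with hx'
  have hx'W : x' ∉ pPrimeCore 2 G ⊔ (P : Subgroup G) := by
    intro h1
    apply hx
    have h2 := hWn.conj_mem _ h1 g
    have h3 : g * x' * g⁻¹ = x := by rw [hx']; group
    rwa [h3] at h2
  have hx'o : orderOf x' = orderOf x := by
    have := (MulAut.conj g⁻¹).orderOf_eq x
    simpa [MulAut.conj_apply] using this
  set R' := R.map (MulAut.conj g⁻¹).toMonoidHom with hR'
  have hR'c : Nat.card R' = 4 := by
    rw [hR', Subgroup.card_map_of_injective (MulAut.conj g⁻¹).injective, hRc]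
  have hR'P : R' ≤ (P : Subgroup G) := by
    rintro _ ⟨r, hr, rfl⟩
    have h1 : r ∈ (Q : Subgroup G) := hQ hr
    rw [← hg, Sylow.coe_subgroup_smul, Subgroup.mem_pointwise_smul_iff_inv_smul_mem] at h1
    simpa [MulAut.smul_def] using h1
  have hR'x : ∀ r ∈ R', x' * r = r * x' := by
    rintro _ ⟨r, hr, rfl⟩
    have h1 := hRx r hr
    change g⁻¹ * x * g * (g⁻¹ * r * g⁻¹⁻¹) = (g⁻¹ * r * g⁻¹⁻¹) * (g⁻¹ * x * g)
    calc g⁻¹ * x * g * (g⁻¹ * r * g⁻¹⁻¹) = g⁻¹ * (x * r) * g := by group
      _ = g⁻¹ * (r * x) * g := by rw [h1]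
      _ = (g⁻¹ * r * g⁻¹⁻¹) * (g⁻¹ * x * g) := by group
  -- `x'` centralises `z`
  have hzR : z ∈ R' := by
    obtain ⟨r, hr⟩ := exists_prime_orderOf_dvd_card' (G := R') 2 (by rw [hR'c]; norm_num)
    have h1 : orderOf (r : G) = 2 := by rw [Subgroup.orderOf_coe, hr]
    have h2 := h.uniq _ (hR'P r.2) h1
    rw [← h2]
    exact r.2
  have hx'N := h.ti.cent_le h.mem h.ne (hR'x z hzR)
  -- `x'` centralises `P`
  have hidx : (R'.subgroupOf (P : Subgroup G)).index = 2 := by
    have h1 := Subgroup.card_mul_index (R'.subgroupOf (P : Subgroup G))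
    have h2 : Nat.card (R'.subgroupOf (P : Subgroup G)) = 4 := by
      rw [Nat.card_congr (Subgroup.subgroupOfEquivOfLe hR'P).toEquiv, hR'c]
    rw [h2, hc] at h1
    omega
  have hcent : x' ∈ Subgroup.centralizer ((P : Subgroup G) : Set G) := by
    rw [Subgroup.mem_centralizer_iff]
    intro u hu
    have hw : x' * u * x'⁻¹ ∈ (P : Subgroup G) := (Subgroup.mem_normalizer_iff.1 hx'N u).1 hu
    have hiff : u ∈ R' ↔ x' * u * x'⁻¹ ∈ R' := by
      constructor
      · intro h1
        rw [hR'x u h1, mul_inv_cancel_right]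
        exact h1
      · intro h1
        have h2 := hR'x _ h1
        have h3 : x' * u * x'⁻¹ = u := by
          have : x' * (x' * u * x'⁻¹) = x' * u := by rw [h2]; group
          exact mul_left_cancel this
        rwa [h3] at h1
    have hc1 : u⁻¹ * (x' * u * x'⁻¹) ∈ R' := by
      have h1 := Subgroup.mul_mem_iff_of_index_two hidx (a := (⟨u, hu⟩ : (P : Subgroup G))⁻¹)
        (b := ⟨x' * u * x'⁻¹, hw⟩)
      have h2 := h1.2 (by
        rw [Subgroup.inv_mem_iff, Subgroup.mem_subgroupOf, Subgroup.mem_subgroupOf]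
        exact hiff)
      exact h2
    set c := u⁻¹ * (x' * u * x'⁻¹) with hcdef
    have hxu : x' * u * x'⁻¹ = u * c := by rw [hcdef]; group
    have hcx := hR'x c hc1
    have hpow : ∀ k : ℕ, x' ^ k * u * (x' ^ k)⁻¹ = u * c ^ k := by
      intro k
      induction k with
      | zero => simp
      | succ k ih =>
        have h1 : x' ^ (k + 1) * u * (x' ^ (k + 1))⁻¹ = x' * (x' ^ k * u * (x' ^ k)⁻¹) * x'⁻¹ := by
          rw [pow_succ']; group
        have h2 : x' * c ^ k = c ^ k * x' := (Commute.pow_right (show Commute x' c from hcx) k).eq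
        rw [h1, ih]
        calc x' * (u * c ^ k) * x'⁻¹ = x' * u * (c ^ k * x'⁻¹) := by group
          _ = x' * u * (x'⁻¹ * (x' * c ^ k) * x'⁻¹) := by group
          _ = x' * u * (x'⁻¹ * (c ^ k * x') * x'⁻¹) := by rw [h2]
          _ = (x' * u * x'⁻¹) * c ^ k := by group
          _ = u * c ^ (k + 1) := by rw [hxu, pow_succ']; group
    have h1 := hpow (orderOf x')
    rw [pow_orderOf_eq_one, one_mul, inv_one, mul_one] at h1
    have h2 : c ^ orderOf x' = 1 := by
      have : u * 1 = u * c ^ orderOf x' := by rw [mul_one]; exact h1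
      exact (mul_left_cancel this).symm
    have h3 : c = 1 := by
      obtain ⟨k, hk⟩ := P.isPGroup' ⟨c, hR'P hc1⟩
      have h4 : c ^ 2 ^ k = 1 := by simpa using congrArg Subtype.val hk
      have h5 : Nat.Coprime (orderOf x') (2 ^ k) :=
        Nat.Coprime.pow_right k ((Nat.Prime.coprime_iff_not_dvd Nat.prime_two).2 (hx'o ▸ hxo)).symm
      have h6 := Nat.dvd_gcd (orderOf_dvd_of_pow_eq_one h2) (orderOf_dvd_of_pow_eq_one h4)
      rw [h5] at h6
      exact orderOf_eq_one_iff.1 (Nat.dvd_one.1 h6)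
    rw [h3, mul_one] at hxu
    exact (mul_inv_eq_iff_eq_mul.1 hxu).symm
  exact hx'W (Subgroup.mem_sup_left (mem_core h.sup_top hcent (hx'o ▸ hxo)))

/-- the quaternion data -/
theorem exists_QG (hTI : TIs P) {k : ℕ} (e : (P : Subgroup G) ≃* QuaternionGroup (2 ^ k)) : ∃ z, QG P z := by
  obtain ⟨z, hz, ho⟩ := CharDeep.QuatSylowBasic.exists_of_equiv e
  exact ⟨z, hTI, hz, ho, fun x hx hxo => CharDeep.QuatSylowBasic.unique_of_equiv e x z hx hz hxo ho⟩

/-- **The structure of `G`** -/
theorem QG.qh (h : QG P z) {n : ℕ} (hn : 3 ≤ n) (e : (P : Subgroup G) ≃* QuaternionGroup (2 ^ (n - 2))) :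
    QH (pPrimeCore 2 G) (P : Subgroup G) n := by
  have : Fact (Nat.Prime 2) := ⟨Nat.prime_two⟩
  refine ⟨Lib.Cores.pPrimeCore_normal 2, core_odd, P.isPGroup', P.not_dvd_index, hn, ⟨e⟩, W_normal h.sup_top, ?_⟩
  by_cases h3 : n = 3
  · subst h3
    have e' : (P : Subgroup G) ≃* QuaternionGroup 2 := e
    rcases index_eight h.sup_top e' with h1 | h1
    · exact Or.inl h1
    · refine Or.inr ⟨h1, rfl, fun x hx hxo => ?_⟩
      have hc : Nat.card (P : Subgroup G) = 8 := by
        rw [Nat.card_congr e'.toEquiv, Nat.card_eq_fintype_card, QuaternionGroup.card]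
      exact cent_four h hc hx hxo
  · exact Or.inl (index_one h.sup_top (by omega) e)

theorem QG.subgroupOf_sup (P : Sylow 2 G) :
    (pPrimeCore 2 G).subgroupOf (Subgroup.normalizer ((P : Subgroup G) : Set G)) ⊔
      (P : Subgroup G).subgroupOf (Subgroup.normalizer ((P : Subgroup G) : Set G)) =
    (pPrimeCore 2 G ⊔ (P : Subgroup G)).subgroupOf (Subgroup.normalizer ((P : Subgroup G) : Set G)) := by
  have hKn : (pPrimeCore 2 G).Normal := Lib.Cores.pPrimeCore_normal 2
  set N := Subgroup.normalizer ((P : Subgroup G) : Set G) with hN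
  have hPN : (P : Subgroup G) ≤ N := Subgroup.le_normalizer
  apply le_antisymm
  · exact sup_le (Subgroup.comap_mono le_sup_left) (Subgroup.comap_mono le_sup_right)
  · rintro ⟨x, hx⟩ hxW
    rw [Subgroup.mem_subgroupOf] at hxW
    obtain ⟨k, hk, u, hu, hku⟩ := Subgroup.mem_sup_of_normal_left.1 hxW
    change k * u = x at hku
    have huN : u ∈ N := hPN hu
    have hkN : k ∈ N := by
      have : k = x * u⁻¹ := by rw [← hku, mul_inv_cancel_right]
      rw [this]
      exact mul_mem hx (inv_mem huN)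
    have : (⟨x, hx⟩ : N) = ⟨k, hkN⟩ * ⟨u, huN⟩ := Subtype.ext hku.symm
    rw [this]
    exact mul_mem (Subgroup.mem_sup_left hk) (Subgroup.mem_sup_right hu)

theorem QG.index_eq (h : QG P z) :
    ((pPrimeCore 2 G).subgroupOf (Subgroup.normalizer ((P : Subgroup G) : Set G)) ⊔
      (P : Subgroup G).subgroupOf (Subgroup.normalizer ((P : Subgroup G) : Set G))).index =
    (pPrimeCore 2 G ⊔ (P : Subgroup G)).index := by
  have hWn := W_normal h.sup_top
  have h2 : Subgroup.normalizer ((P : Subgroup G) : Set G) ⊔ (pPrimeCore 2 G ⊔ (P : Subgroup G)) = ⊤ := by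
    rw [eq_top_iff, ← h.sup_top]
    exact sup_le (le_trans le_sup_left le_sup_right) le_sup_left
  rw [QG.subgroupOf_sup]
  change (pPrimeCore 2 G ⊔ (P : Subgroup G)).relIndex (Subgroup.normalizer ((P : Subgroup G) : Set G)) = _
  rw [← Subgroup.relIndex_sup_right, h2, Subgroup.relIndex_top_right]

/-- **The structure of `N_G(P)`** -/
theorem QG.qhN (h : QG P z) {n : ℕ} (hn : 3 ≤ n) (e : (P : Subgroup G) ≃* QuaternionGroup (2 ^ (n - 2))) :
    QH ((pPrimeCore 2 G).subgroupOf (Subgroup.normalizer ((P : Subgroup G) : Set G)))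
      ((P : Subgroup G).subgroupOf (Subgroup.normalizer ((P : Subgroup G) : Set G))) n := by
  have : Fact (Nat.Prime 2) := ⟨Nat.prime_two⟩
  have hG := h.qh hn e
  have hKn : (pPrimeCore 2 G).Normal := hG.Kn
  have hWn := hG.Gn
  set N := Subgroup.normalizer ((P : Subgroup G) : Set G) with hN
  have hPN : (P : Subgroup G) ≤ N := Subgroup.le_normalizer
  have heq : (pPrimeCore 2 G).subgroupOf N ⊔ (P : Subgroup G).subgroupOf N =
      (pPrimeCore 2 G ⊔ (P : Subgroup G)).subgroupOf N := by
    apply le_antisymm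
    · exact sup_le (Subgroup.comap_mono le_sup_left) (Subgroup.comap_mono le_sup_right)
    · rintro ⟨x, hx⟩ hxW
      rw [Subgroup.mem_subgroupOf] at hxW
      obtain ⟨k, hk, u, hu, hku⟩ := Subgroup.mem_sup_of_normal_left.1 hxW
      change k * u = x at hku
      have huN : u ∈ N := hPN hu
      have hkN : k ∈ N := by
        have : k = x * u⁻¹ := by rw [← hku, mul_inv_cancel_right]
        rw [this]
        exact mul_mem hx (inv_mem huN)
      have : (⟨x, hx⟩ : N) = ⟨k, hkN⟩ * ⟨u, huN⟩ := Subtype.ext hku.symm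
      rw [this]
      exact mul_mem (Subgroup.mem_sup_left hk) (Subgroup.mem_sup_right hu)
  have hidx : ((pPrimeCore 2 G).subgroupOf N ⊔ (P : Subgroup G).subgroupOf N).index =
      (pPrimeCore 2 G ⊔ (P : Subgroup G)).index := by
    have h2 : N ⊔ (pPrimeCore 2 G ⊔ (P : Subgroup G)) = ⊤ := by
      rw [eq_top_iff, ← h.sup_top]
      exact sup_le (le_trans le_sup_left le_sup_right) le_sup_left
    rw [heq]
    change (pPrimeCore 2 G ⊔ (P : Subgroup G)).relIndex N = _
    rw [← Subgroup.relIndex_sup_right, h2, Subgroup.relIndex_top_right]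
  refine ⟨inferInstance, ?_, ?_, ?_, hn, ?_, ?_, ?_⟩
  · intro h2
    apply hG.Kodd
    refine h2.trans ?_
    exact Subgroup.card_dvd_of_injective
      ((N.subtype).subgroupComap (pPrimeCore 2 G)) (fun a b hab => Subtype.ext (Subtype.ext
        (congrArg (fun t : (pPrimeCore 2 G) => (t : G)) hab)))
  · exact P.isPGroup'.comap_of_injective _ (Subgroup.subtype_injective _)
  · intro h2
    exact P.not_dvd_index (h2.trans (Subgroup.relIndex_dvd_index_of_le hPN))
  · exact ⟨(Subgroup.subgroupOfEquivOfLe hPN).trans e⟩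
  · rw [heq]
    infer_instance
  · rw [hidx]
    rcases hG.idx with h1 | ⟨h1, h3, h4⟩
    · exact Or.inl h1
    · refine Or.inr ⟨h1, h3, fun x hx hxo h5 => ?_⟩
      rw [heq, Subgroup.mem_subgroupOf] at hx
      refine h4 (x : G) hx (by rwa [Subgroup.orderOf_coe]) (h5.trans ?_)
      let f : Subgroup.centralizer ({x} : Set N) →* Subgroup.centralizer ({(x : G)} : Set G) :=
        { toFun := fun y => ⟨(y : N), by
            have := Subgroup.mem_centralizer_singleton_iff.1 y.2
            rw [Subgroup.mem_centralizer_singleton_iff]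
            exact congrArg Subtype.val this⟩
          map_one' := rfl
          map_mul' := fun _ _ => rfl }
      exact Subgroup.card_dvd_of_injective f (fun a b hab => Subtype.ext (Subtype.ext
        (congrArg (fun t : Subgroup.centralizer ({(x : G)} : Set G) => (t : G)) hab)))

end Cfsg.Agent.H723.TI
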