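import Mathlib
import Cfsg.Agent.H723.TI.QBlkB
import Cfsg.Agent.H723.TI.QGrp
import Cfsg.Agent.H593.GlaubermanP2
import Cfsg.Agent.Blocks.CoverConj
import Cfsg.Agent.Blocks.CliffordCentral
import Cfsg.Agent.Blocks.PrimeNormal

/-!
# The blocks `b` of `N_G(P)` and `B` of `G` and the Glauberman correspondence

`K` normal of odd order, `K ∩ N_G(P) ≤ C_G(P)`, `b` induces `B`, `β ∈ Irr (K ∩ N_G(P))` lies under `b`.  There is a
`P`-invariant `θ ∈ Irr K` under `B`, which is `G`-invariant if and only if `β` is `N_G(P)`-invariant.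
-/

set_option autoImplicit false

namespace Cfsg.Agent.H723.TI

open Cfsg
open Cfsg.Agent.Blocks.Local
open Cfsg.Agent.H593.GlaubermanP
open Cfsg.Agent.Blocks.ConvCentral (lin lin_def)
open scoped ComplexConjugate

universe u

variable {G : Type u} [Group G] [Finite G] {P : Sylow 2 G} {K : Subgroup G} {M : Ideal AlgInt}

/-- blocks of groups of order prime to `p` -/
theorem eq_of_sameBlock' {H : Type u} [Group H] [Finite H] {p : ℕ} (hM : IsPModular p M)
    (hH : ¬ p ∣ Nat.card H) {χ ψ : IrrCharacter H} (h : SameBlock M (χ : H → ℂ) (ψ : H → ℂ)) : χ = ψ := by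
  classical
  have := Fintype.ofFinite H
  have := Fintype.ofFinite (⊤ : Subgroup H)
  let θ : IrrCharacter (⊤ : Subgroup H) := ⟨fun x => (χ : H → ℂ) x,
    Blocks.CliffordCentral.isIrrCharacter_comp χ.2 (⊤ : Subgroup H).subtype (fun x => ⟨⟨x, trivial⟩, rfl⟩)⟩
  let θ' : IrrCharacter (⊤ : Subgroup H) := ⟨fun x => (ψ : H → ℂ) x,
    Blocks.CliffordCentral.isIrrCharacter_comp ψ.2 (⊤ : Subgroup H).subtype (fun x => ⟨⟨x, trivial⟩, rfl⟩)⟩
  have h1 : classInner (fun n : (⊤ : Subgroup H) => (χ : H → ℂ) n) (θ : (⊤ : Subgroup H) → ℂ) ≠ 0 := by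
    have := Blocks.CliffordCentral.classInner_self θ
    change classInner (θ : (⊤ : Subgroup H) → ℂ) (θ : (⊤ : Subgroup H) → ℂ) ≠ 0
    rw [this]
    exact one_ne_zero
  have h2 := Blocks.PrimeNormal.constituent_of_sameBlock hM (⊤ : Subgroup H)
    (by rwa [Subgroup.card_top]) χ.2 ψ.2 h θ.2 h1
  have h3 : θ' = θ := by
    by_contra hne
    exact h2 (Characters.Core.classInner_irr_ne θ'.2 θ.2 (fun h4 => hne (Subtype.ext h4)))
  apply Subtype.ext
  funext x
  exact (congrFun (congrArg Subtype.val h3) ⟨x, trivial⟩).symm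

/-- the embedding of `K ∩ N` in `K` -/
def io (K N : Subgroup G) : K.subgroupOf N →* K where
  toFun d := ⟨((d : N) : G), d.2⟩
  map_one' := rfl
  map_mul' _ _ := rfl

/-- the action of `Q` on `K` by conjugation -/
@[reducible] def actC (K : Subgroup G) [K.Normal] (Q : Subgroup G) : MulDistribMulAction Q K :=
  MulDistribMulAction.compHom K ((MulAut.conjNormal (H := K)).comp Q.subtype)

theorem setup [hKn : K.Normal] (hK : ¬ 2 ∣ Nat.card K) {N : Subgroup G}
    (hN : N = Subgroup.normalizer ((P : Subgroup G) : Set G)) :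
    letI := actC K (P : Subgroup G)
    Setup (P : Subgroup G) (io K N) 2 := by
  let _ := actC K (P : Subgroup G)
  subst hN
  refine ⟨?_, ?_, P.isPGroup', hK⟩
  · intro a b hab
    exact Subtype.ext (Subtype.ext (congrArg (Subtype.val : K → G) hab))
  · intro g
    constructor
    · intro h
      have hg : (g : G) ∈ Subgroup.normalizer ((P : Subgroup G) : Set G) := by
        apply Subgroup.centralizer_le_normalizer
        rw [Subgroup.mem_centralizer_iff]
        intro u hu
        have h1 := congrArg (Subtype.val : K → G) (h ⟨u, hu⟩)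
        change u * (g : G) * u⁻¹ = g at h1
        exact mul_inv_eq_iff_eq_mul.1 h1
      exact ⟨⟨⟨g, hg⟩, g.2⟩, rfl⟩
    · rintro ⟨c, rfl⟩ s
      apply Subtype.ext
      change (s : G) * ((c : Subgroup.normalizer ((P : Subgroup G) : Set G)) : G) * (s : G)⁻¹ = _
      have h1 := cent_of_mem hKn hK c.2 (c : Subgroup.normalizer ((P : Subgroup G) : Set G)).2
      rw [Subgroup.mem_centralizer_iff] at h1
      have h2 := h1 s s.2
      exact mul_inv_eq_iff_eq_mul.2 h2

/-- **`B` lies over the Glauberman correspondent of `β`** -/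
theorem exists_theta (hM : IsPModular 2 M) [hKn : K.Normal] (hK : ¬ 2 ∣ Nat.card K) {N : Subgroup G}
    (hN : N = Subgroup.normalizer ((P : Subgroup G) : Set G)) (hKN : K ⊔ N = ⊤)
    {bl : Set (IrrCharacter N)} {B : Set (IrrCharacter G)} (hb : IsInducedBlock M N bl B)
    {β : IrrCharacter (K.subgroupOf N)} [Fintype K] [Fintype (K.subgroupOf N)]
    {ξ : IrrCharacter N} (hξ : ξ ∈ bl)
    (hβ : classInner (fun c : K.subgroupOf N => (ξ : N → ℂ) c) (β : K.subgroupOf N → ℂ) ≠ 0) :
    ∃ θ : IrrCharacter K, (P : Subgroup G) ≤ inr K (θ : K → ℂ) ∧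
      (∀ χ ∈ B, classInner (fun k : K => (χ : G → ℂ) k) (θ : K → ℂ) ≠ 0) ∧
      (inr K (θ : K → ℂ) = ⊤ ↔ inr (K.subgroupOf N) (β : K.subgroupOf N → ℂ) = ⊤) := by
  classical
  have : Fact (Nat.Prime 2) := ⟨Nat.prime_two⟩
  have := Fintype.ofFinite G
  have hMp : M.IsPrime := hM.2.1.isPrime
  have := Fintype.ofFinite N
  let _ := actC K (P : Subgroup G)
  have hS : Setup (P : Subgroup G) (io K N) 2 := setup hK hN
  obtain ⟨θ, hθ, hθb⟩ := exists_chi hS hM β
  have hPθ : (P : Subgroup G) ≤ inr K (θ : K → ℂ) := fun u hu k => hθ ⟨u, hu⟩ k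
  obtain ⟨χ₀, hχ₀⟩ := Blocks.Basic.isPBlock_nonempty hb.2.1
  obtain ⟨θ', hθ'⟩ := Blocks.Fong.exists_constituent K χ₀
  -- the central characters of `θ` and `θ'` agree
  have hcc : ∀ y : K, MemLocalIdeal M (inducedCentralChar K (θ : K → ℂ) (y : G) -
      inducedCentralChar K (θ' : K → ℂ) (y : G)) := by
    intro y
    -- the class function
    let zf : K → ℂ := fun k => Blocks.CliffordCentral.classInd (y : G) (k : G)
    have hz1 : Inv (P : Subgroup G) zf := by
      intro s k
      exact Blocks.CliffordCentral.classInd_conj (y : G) (k : G) (s : G)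
    have hz2 : IsClassFunction K zf := by
      intro a k
      exact Blocks.CliffordCentral.classInd_conj (y : G) _ _
    have hz3 : ∀ k, MemLocalRing M (zf k) := by
      intro k
      by_cases h : IsConj (y : G) (k : G)
      · simp only [zf, Blocks.CliffordCentral.classInd_pos h]
        exact memLocalRing_one
      · simp only [zf, Blocks.CliffordCentral.classInd_neg h]
        exact memLocalRing_zero
    have h1 := key hS hM θ β hθ hz1 hz2 hz3
    have h2 : MemLocalRing M (lin (θ : K → ℂ) zf / (θ : K → ℂ) 1 -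
        lin (β : K.subgroupOf N → ℂ) (zf ∘ io K N) / (β : K.subgroupOf N → ℂ) 1) :=
      memLocalRing_sub (lin_div_mem hM hK θ hz3) (lin_div_mem hM hS.ndvd' β (fun c => hz3 _))
    have h3 : MemLocalIdeal M (lin (θ : K → ℂ) zf / (θ : K → ℂ) 1 -
        lin (β : K.subgroupOf N → ℂ) (zf ∘ io K N) / (β : K.subgroupOf N → ℂ) 1) :=
      (memLocalIdeal_or_of_mul h2 (b_mem hS hM θ β) h1).resolve_right hθb
    -- the `K`-side
    have h4 : inducedCentralChar K (θ : K → ℂ) (y : G) = lin (θ : K → ℂ) zf / (θ : K → ℂ) 1 := by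
      rw [Blocks.CliffordCentral.inducedCentralChar_eq_sum, lin_def]
    -- the `N`-side
    have h5 : inducedCentralChar N (ξ : N → ℂ) (y : G) =
        lin (β : K.subgroupOf N → ℂ) (zf ∘ io K N) / (β : K.subgroupOf N → ℂ) 1 := by
      rw [Blocks.CliffordCentral.inducedCentralChar_eq_sum, lin_def]
      have h6 := Blocks.Over.sum_mul_eq_of_over (K.subgroupOf N) ξ.2 β.2 hβ
        (fun c => Blocks.CliffordCentral.classInd (y : G) ((c : N) : G)) (fun g c =>
          Blocks.CliffordCentral.classInd_conj (y : G) ((c : N) : G) (g : G))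
      rw [show (∑ c : K.subgroupOf N, (zf ∘ io K N) c * (β : K.subgroupOf N → ℂ) c) =
        ∑ c : K.subgroupOf N, Blocks.CliffordCentral.classInd (y : G) ((c : N) : G) *
          (β : K.subgroupOf N → ℂ) c from rfl, ← h6]
      congr 1
      rw [← Finset.sum_subset (Finset.subset_univ (Finset.univ.map
        ⟨(Subtype.val : K.subgroupOf N → N), Subtype.val_injective⟩))]
      · rw [Finset.sum_map]
        rfl
      · intro h _ hh
        have h7 : ¬ IsConj (y : G) (h : G) := by
          intro h8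
          apply hh
          rw [Finset.mem_map]
          obtain ⟨c, hc⟩ := isConj_iff.1 h8
          refine ⟨⟨h, ?_⟩, Finset.mem_univ _, rfl⟩
          rw [Subgroup.mem_subgroupOf, ← hc]
          exact hKn.conj_mem _ y.2 c
        rw [Blocks.CliffordCentral.classInd_neg h7, zero_mul]
    have h6 : inducedCentralChar K (θ' : K → ℂ) (y : G) = centralChar (χ₀ : G → ℂ) (y : G) :=
      (Blocks.Over.centralChar_eq_of_over K χ₀.2 θ'.2 hθ' y).symm
    have h7 := hb.2.2 ξ hξ χ₀ hχ₀ (y : G)
    rw [h5, ← h6] at h7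
    rw [← h4] at h3
    have h8 := memLocalIdeal_add h3 h7
    rw [sub_add_sub_cancel] at h8
    exact h8
  -- `θ` is a conjugate of `θ'`
  obtain ⟨g, hg⟩ := Blocks.CoverConj.exists_conjIrr_mem 2 hM K (blockOf M (θ' : K → ℂ)) ⟨θ', rfl⟩ θ'
    (Blocks.Basic.mem_blockOf_self θ') θ hcc
  have hgθ : θ' = Blocks.Covering.conjIrr K g θ := eq_of_sameBlock' hM hK hg
  have hover : classInner (fun k : K => (χ₀ : G → ℂ) k) (θ : K → ℂ) ≠ 0 := by
    rw [hgθ] at hθ'
    have h1 := Characters.Clifford.classInner_restrict_conjNormal (N := K)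
      (Characters.Core.isIrr_isClassFunction χ₀.2) (θ : K → ℂ) g
    intro h2
    apply hθ'
    rw [← h2, ← h1]
    rfl
  refine ⟨θ, hPθ, ?_, ?_⟩
  · intro χ hχ
    exact Blocks.PrimeNormal.constituent_of_sameBlock hM K hK χ₀.2 χ.2
      (Blocks.Basic.isPBlock_sameBlock hb.2.1 hχ₀ hχ) θ.2 hover
  -- invariance
  · have hbval : ∀ (θ₁ : IrrCharacter K) (β₁ : IrrCharacter (K.subgroupOf N)) (n : N),
        (∀ k : K, (θ₁ : K → ℂ) (MulAut.conjNormal (n : G) k) = (θ : K → ℂ) k) →
        (∀ c : K.subgroupOf N, (β₁ : K.subgroupOf N → ℂ) (MulAut.conjNormal n c) = (β : K.subgroupOf N → ℂ) c) →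
        b (io K N) θ₁ β₁ = b (io K N) θ β := by
      intro θ₁ β₁ n h1 h2
      rw [b_def, b_def, lin_def, lin_def]
      have h3 : (β₁ : K.subgroupOf N → ℂ) 1 = (β : K.subgroupOf N → ℂ) 1 := by
        rw [← h2 1, map_one]
      have h4 : (θ₁ : K → ℂ) 1 = (θ : K → ℂ) 1 := by
        rw [← h1 1, map_one]
      rw [h3]
      congr 1
      rw [← Equiv.sum_comp (MulAut.conjNormal n : K.subgroupOf N ≃* K.subgroupOf N).toEquiv]
      refine Finset.sum_congr rfl fun c _ => ?_
      change idem θ₁ (io K N (MulAut.conjNormal n c)) * (β₁ : K.subgroupOf N → ℂ) (MulAut.conjNormal n c) =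
        idem θ (io K N c) * (β : K.subgroupOf N → ℂ) c
      rw [h2, idem_apply, idem_apply, h4]
      have h5 : io K N (MulAut.conjNormal n c) = MulAut.conjNormal (n : G) (io K N c) := rfl
      rw [h5, h1]
    constructor
    · intro hinv
      rw [eq_top_iff]
      intro n _
      -- the conjugate of `β`
      let β₁ : IrrCharacter (K.subgroupOf N) := Blocks.Covering.conjIrr (K.subgroupOf N) n⁻¹ β
      have h1 : b (io K N) θ β₁ = b (io K N) θ β := by
        apply hbval θ β₁ n
        · intro k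
          have h2 : (n : G) ∈ inr K (θ : K → ℂ) := by rw [hinv]; trivial
          exact h2 k
        · intro c
          change (β : K.subgroupOf N → ℂ) (MulAut.conjNormal n⁻¹ (MulAut.conjNormal n c)) = _
          rw [← MulAut.mul_apply, ← map_mul, inv_mul_cancel, map_one, MulAut.one_apply]
      have h2 : β₁ = β := unique_beta hS hM hθ (by rw [h1]; exact hθb) hθb
      intro c
      have h3 := congrFun (congrArg (Subtype.val : IrrCharacter (K.subgroupOf N) → _) h2) (MulAut.conjNormal n c)
      change (β : K.subgroupOf N → ℂ) (MulAut.conjNormal n⁻¹ (MulAut.conjNormal n c)) = _ at h3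
      rw [← MulAut.mul_apply, ← map_mul, inv_mul_cancel, map_one, MulAut.one_apply] at h3
      exact h3.symm
    · intro hinv
      have hNθ : N ≤ inr K (θ : K → ℂ) := by
        intro n hn
        let θ₁ : IrrCharacter K := Blocks.Covering.conjIrr K n⁻¹ θ
        have h1 : b (io K N) θ₁ β = b (io K N) θ β := by
          apply hbval θ₁ β ⟨n, hn⟩
          · intro k
            change (θ : K → ℂ) (MulAut.conjNormal n⁻¹ (MulAut.conjNormal n k)) = _
            rw [← MulAut.mul_apply, ← map_mul, inv_mul_cancel, map_one, MulAut.one_apply]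
          · intro c
            have h2 : (⟨n, hn⟩ : N) ∈ inr (K.subgroupOf N) (β : K.subgroupOf N → ℂ) := by rw [hinv]; trivial
            exact h2 c
        have hθ₁ : Inv (P : Subgroup G) (θ₁ : K → ℂ) := by
          intro s k
          change (θ : K → ℂ) (MulAut.conjNormal n⁻¹ (MulAut.conjNormal (s : G) k)) =
            (θ : K → ℂ) (MulAut.conjNormal n⁻¹ k)
          have h2 : n⁻¹ * (s : G) * n ∈ (P : Subgroup G) := by
            have hn' := hn
            rw [hN] at hn'
            have := (Subgroup.mem_normalizer_iff.1 (inv_mem hn') (s : G)).1 s.2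
            simpa using this
          have h3 := hPθ h2 (MulAut.conjNormal n⁻¹ k)
          rw [← h3]
          congr 1
          rw [← MulAut.mul_apply, ← map_mul, ← MulAut.mul_apply, ← map_mul]
          congr 2
          group
        have h2 : θ₁ = θ := unique_chi hS hM hθ₁ hθ (by rw [h1]; exact hθb) hθb
        intro k
        have h3 := congrFun (congrArg (Subtype.val : IrrCharacter K → _) h2) (MulAut.conjNormal n k)
        change (θ : K → ℂ) (MulAut.conjNormal n⁻¹ (MulAut.conjNormal n k)) = _ at h3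
        rw [← MulAut.mul_apply, ← map_mul, inv_mul_cancel, map_one, MulAut.one_apply] at h3
        exact h3.symm
      rw [eq_top_iff, ← hKN]
      refine sup_le ?_ hNθ
      intro k hk k'
      exact Characters.Core.isIrr_isClassFunction θ.2 k' ⟨k, hk⟩

end Cfsg.Agent.H723.TI
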