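import Mathlib
import Cfsg.Agent.H723.TI.Cyc
import Cfsg.Agent.H723.TI.QGrpB
import Cfsg.Agent.H723.TI.QBlkB
import Cfsg.Agent.H723.TI.QMid

/-!
# S4819: generalised quaternion TI Sylow 2-subgroups
-/

set_option autoImplicit false

namespace Cfsg.Agent.H723.TI

open Cfsg

universe u

variable {G : Type u} [Group G] [Finite G]

/-- a block of `QH` has at least 5 members -/
theorem QH.card_five {X : Type u} [Group X] [Finite X] {K P : Subgroup X} (h : QH K P 3) {M : Ideal AlgInt}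
    (hM : IsPModular 2 M) {B : Set (IrrCharacter X)} (hB : IsPBlock M B) (hD : IsDefectGroup 2 M B P) :
    5 ≤ Nat.card B := by
  have h1 := Cfsg.Agent.S4530.result M hM B hB P hD 3 le_rfl h.q
  have h2 := h1.1
  have h3 := h1.2.2.1
  rw [h3]
  norm_num
  omega

/-- S4819 for generalised quaternion TI Sylow 2-subgroups -/
theorem rk_quat (P : Sylow 2 G) (hTI : TIs P) {n : ℕ} (hn : 3 ≤ n)
    (e : (P : Subgroup G) ≃* QuaternionGroup (2 ^ (n - 2))) : Rk 2 P := by
  intro M hM B hB hBP b hb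
  classical
  have : Fact (Nat.Prime 2) := ⟨Nat.prime_two⟩
  have := Fintype.ofFinite G
  have hMp : M.IsPrime := hM.2.1.isPrime
  obtain ⟨z, h⟩ := exists_QG hTI e
  have hG := h.qh hn e
  have hN := h.qhN hn e
  have hidxN := h.index_eq
  have hbD := defect_b hM P hb.1
  have hKn := hG.Kn
  rcases hG.idx with h1 | ⟨h1, rfl, -⟩
  · have hvG : ∀ χ ∈ B, ∀ x : G, x ∉ pPrimeCore 2 G ⊔ (P : Subgroup G) → ¬ 2 ∣ orderOf x → (χ : G → ℂ) x = 0 := by
      intro χ _ x hx
      rw [Subgroup.index_eq_one.1 h1] at hx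
      exact absurd (Subgroup.mem_top x) hx
    rw [hG.rank_one hM hB hvG]
    symm
    apply hN.rank_one hM hb.1
    intro χ _ x hx
    rw [h1] at hidxN
    rw [Subgroup.index_eq_one.1 hidxN] at hx
    exact absurd (Subgroup.mem_top x) hx
  · rw [h1] at hidxN
    have := Fintype.ofFinite (Subgroup.normalizer ((P : Subgroup G) : Set G))
    have := Fintype.ofFinite (pPrimeCore 2 G)
    have := Fintype.ofFinite ((pPrimeCore 2 G).subgroupOf (Subgroup.normalizer ((P : Subgroup G) : Set G)))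
    obtain ⟨ξ, hξ⟩ := Blocks.Basic.isPBlock_nonempty hb.1
    obtain ⟨β, hβ⟩ := Blocks.Fong.exists_constituent
      ((pPrimeCore 2 G).subgroupOf (Subgroup.normalizer ((P : Subgroup G) : Set G))) ξ
    obtain ⟨θ, hPθ, hcov, hiff⟩ := exists_theta hM hG.Kodd rfl h.sup_top hb hξ hβ
    have hcovN : ∀ ξ' ∈ b, classInner (fun c : (pPrimeCore 2 G).subgroupOf
        (Subgroup.normalizer ((P : Subgroup G) : Set G)) =>
        (ξ' : Subgroup.normalizer ((P : Subgroup G) : Set G) → ℂ) c) (β : (pPrimeCore 2 G).subgroupOf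
        (Subgroup.normalizer ((P : Subgroup G) : Set G)) → ℂ) ≠ 0 := by
      intro ξ' hξ'
      exact Blocks.PrimeNormal.constituent_of_sameBlock hM _ hN.Kodd ξ.2 ξ'.2
        (Blocks.Basic.isPBlock_sameBlock hb.1 hξ hξ') β.2 hβ
    by_cases hinv : inr (pPrimeCore 2 G) (θ : pPrimeCore 2 G → ℂ) = ⊤
    · obtain ⟨χ, hχ, x, hx, hxo, hχx⟩ := hG.nonvanish h1 θ.2 hinv hcov (hG.card_five hM hB hBP)
      obtain ⟨χ', hχ', x', hx', hxo', hχx'⟩ := hN.nonvanish hidxN β.2 (hiff.1 hinv) hcovN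
        (hN.card_five hM hb.1 hbD)
      rw [hG.rank_three hM hB hBP hχ hx hxo hχx, hN.rank_three hM hb.1 hbD hχ' hx' hxo' hχx']
    · have hPβ : (P : Subgroup G).subgroupOf (Subgroup.normalizer ((P : Subgroup G) : Set G)) ≤
          inr ((pPrimeCore 2 G).subgroupOf (Subgroup.normalizer ((P : Subgroup G) : Set G)))
            (β : (pPrimeCore 2 G).subgroupOf (Subgroup.normalizer ((P : Subgroup G) : Set G)) → ℂ) := by
        intro u hu c
        have h2 := cent_of_mem hKn hG.Kodd c.2 (c : Subgroup.normalizer ((P : Subgroup G) : Set G)).2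
        rw [Subgroup.mem_centralizer_iff] at h2
        have h3 : MulAut.conjNormal u c = c := by
          apply Subtype.ext
          apply Subtype.ext
          exact mul_inv_eq_iff_eq_mul.2 (h2 (u : G) hu)
        rw [h3]
      rw [hG.rank_one hM hB (fun χ hχ x hx _ => hG.vanish h1 θ.2 hPθ hinv χ.2 (hcov χ hχ) hx),
        hN.rank_one hM hb.1 (fun χ hχ x hx _ => hN.vanish hidxN β.2 hPβ (fun h2 => hinv (hiff.2 h2)) χ.2
          (hcovN χ hχ) hx)]

end Cfsg.Agent.H723.TI
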