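import Mathlib
import Cfsg.Agent.H723.TI.Defs
import Cfsg.Agent.H649.Transport
import Cfsg.Agent.H648.Dict
import Cfsg.Agent.Blocks.CliffordCentral
import Cfsg.Agent.Blocks.Basic

/-!
# S4819: the trivial cases (`P` normal or trivial)
-/

set_option autoImplicit false

namespace Cfsg.Agent.H723.TI

open Cfsg Cfsg.Agent.Characters
open scoped Pointwise

universe u

variable {G : Type u} [Group G] [Finite G]

/-- a block of `K = G` induces its transport to `G` -/
theorem isInducedBlock_top' {M : Ideal AlgInt} [M.IsPrime] {K : Subgroup G} (hK : K = ⊤) {f : Set (IrrCharacter K)}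
    (hf : IsPBlock M f) : ∃ ι : K ≃* G, IsInducedBlock M K f (H649.blkMap ι f) := by
  subst hK
  have := Fintype.ofFinite G
  have := Fintype.ofFinite (⊤ : Subgroup G)
  refine ⟨Subgroup.topEquiv, hf, H649.isPBlock_blkMap hf, ?_⟩
  rintro ξ hξ _ ⟨χ, hχ, rfl⟩ g
  have h1 : classInner (fun n : (⊤ : Subgroup G) =>
      (Cfsg.Agent.H649.irrMap Subgroup.topEquiv ξ : G → ℂ) n)
      (ξ : (⊤ : Subgroup G) → ℂ) ≠ 0 := by
    have h2 : (fun n : (⊤ : Subgroup G) =>
      (Cfsg.Agent.H649.irrMap Subgroup.topEquiv ξ : G → ℂ) n) = ξ := by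
      funext n
      exact H649.irrMap_apply' Subgroup.topEquiv ξ n
    rw [h2, Core.classInner_irr_self ξ.2]
    exact one_ne_zero
  have h2 := Cfsg.Agent.Blocks.CliffordCentral.centralChar_eq_inducedCentralChar ⊤ _ ξ h1
    ⟨g, Subgroup.mem_top g⟩
  rw [← h2]
  exact Cfsg.Agent.Blocks.Basic.isPBlock_sameBlock (H649.isPBlock_blkMap hf)
    (H649.irrMap_mem_blkMap.2 hξ) (H649.irrMap_mem_blkMap.2 hχ) g

/-- `K = G`: `b` and the block it induces have the same rank -/
theorem rank_top {p : ℕ} [Fact p.Prime] {M : Ideal AlgInt} (hM : IsPModular p M) {K : Subgroup G} (hK : K = ⊤)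
    {b : Set (IrrCharacter K)} {B : Set (IrrCharacter G)} (hb : IsInducedBlock M K b B) :
    blockRank p B = blockRank p b := by
  have := Fintype.ofFinite G
  have : M.IsPrime := hM.2.1.isPrime
  obtain ⟨ι, hι⟩ := isInducedBlock_top' hK hb.1
  rw [H648.Dict.isInducedBlock_unique hb hι, H649.blockRank_blkMap]

/-- S4819 for `N_G(P) = G` -/
theorem rk_normal {p : ℕ} [Fact p.Prime] (P : Sylow p G) (hP : Subgroup.normalizer ((P : Subgroup G) : Set G) = ⊤) :
    Rk p P :=
  fun _ hM _ _ _ _ hb => rank_top hM hP hb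

/-- S4819 for `P = 1` -/
theorem rk_bot {p : ℕ} [Fact p.Prime] (P : Sylow p G) (hP : (P : Subgroup G) = ⊥) : Rk p P := by
  apply rk_normal
  rw [hP]
  exact Subgroup.normalizer_eq_top_iff.mpr inferInstance

end Cfsg.Agent.H723.TI
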