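import Mathlib
import Cfsg.Agent.H723.TI.Triv
import Cfsg.Agent.H723.TI.Cyc
import Cfsg.Agent.H723.TI.Quat
import Cfsg.Agent.S0016

/-!
# S4819: the cases with `P` normal, cyclic or generalised quaternion, and the dichotomy
-/

set_option autoImplicit false

namespace Cfsg.Agent.H723.TI

open Cfsg

universe u

/-- a noncyclic `p`-group which is not generalised quaternion has a noncyclic commutative subgroup -/
theorem exists_V {p : ℕ} [Fact p.Prime] {G : Type u} [Group G] [Finite G] (P : Subgroup G) (hP : IsPGroup p P)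
    (h : ∀ V : Subgroup G, V ≤ P → IsMulCommutative V → IsCyclic V) :
    IsCyclic P ∨ (p = 2 ∧ ∃ n : ℕ, 3 ≤ n ∧ Nonempty (P ≃* QuaternionGroup (2 ^ (n - 2)))) := by
  have hp : p.Prime := Fact.out
  by_cases h1 : Nontrivial P
  swap
  · left
    have : Subsingleton P := not_nontrivial_iff_subsingleton.1 h1
    infer_instance
  have hcn : Nontrivial (Subgroup.center P) := hP.center_nontrivial
  obtain ⟨z, hz⟩ : ∃ z : Subgroup.center P, orderOf z = p := by
    apply exists_prime_orderOf_dvd_card'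
    have h2 : IsPGroup p (Subgroup.center P) := hP.to_subgroup _
    obtain ⟨k, hk⟩ := IsPGroup.iff_card.1 h2
    rw [hk]
    apply dvd_pow_self
    rintro rfl
    have h3 : 1 < Nat.card (Subgroup.center P) := Finite.one_lt_card
    rw [hk, pow_zero] at h3
    omega
  set Z : Subgroup P := Subgroup.zpowers (z : P) with hZ
  have hZc : Nat.card Z = p := by rw [hZ, Nat.card_zpowers, Subgroup.orderOf_coe, hz]
  have hZcen : Z ≤ Subgroup.center P := by
    rw [hZ, Subgroup.zpowers_le]; exact z.2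
  have key : ∀ H : Subgroup P, Nat.card H = p → H = Z := by
    intro H hH
    have hHcyc : IsCyclic H := isCyclic_of_prime_card hH
    have hHc : H ≤ Subgroup.centralizer (H : Set P) := by
      intro a ha
      rw [Subgroup.mem_centralizer_iff]
      intro b hb
      obtain ⟨g, hg⟩ := hHcyc.exists_generator
      obtain ⟨i, hi⟩ := Subgroup.mem_zpowers_iff.1 (hg ⟨a, ha⟩)
      obtain ⟨j, hj⟩ := Subgroup.mem_zpowers_iff.1 (hg ⟨b, hb⟩)
      have h2 : (⟨b, hb⟩ : H) * ⟨a, ha⟩ = ⟨a, ha⟩ * ⟨b, hb⟩ := by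
        rw [← hi, ← hj, ← zpow_add, ← zpow_add, add_comm]
      exact congrArg Subtype.val h2
    have hV1 : H ⊔ Z ≤ Subgroup.centralizer (H : Set P) :=
      sup_le hHc (hZcen.trans (Subgroup.center_le_centralizer _))
    have hV2 : H ⊔ Z ≤ Subgroup.centralizer ((H ⊔ Z : Subgroup P) : Set P) :=
      sup_le (Subgroup.le_centralizer_iff.1 hV1) (hZcen.trans (Subgroup.center_le_centralizer _))
    have hVc : IsMulCommutative ((H ⊔ Z).map P.subtype) := by
      refine ⟨⟨?_⟩⟩
      rintro ⟨_, a, ha, rfl⟩ ⟨_, b, hb, rfl⟩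
      apply Subtype.ext
      have h2 := (Subgroup.mem_centralizer_iff.1 (hV2 hb)) a ha
      exact congrArg (Subtype.val : P → G) h2
    have hVcyc := h ((H ⊔ Z).map P.subtype) (Subgroup.map_subtype_le _) hVc
    have hcyc : IsCyclic (H ⊔ Z : Subgroup P) :=
      isCyclic_of_surjective ((H ⊔ Z).equivMapOfInjective P.subtype P.subtype_injective).symm
        ((H ⊔ Z).equivMapOfInjective P.subtype P.subtype_injective).symm.surjective
    have hle : H ≤ Z := by
      intro x hx
      refine mem_of_pow (P := H ⊔ Z) hcyc le_sup_right hp.pos hZc (Subgroup.mem_sup_left hx) ?_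
      have h2 : (⟨x, hx⟩ : H) ^ p = 1 := by rw [← hH]; exact pow_card_eq_one'
      simpa using congrArg Subtype.val h2
    exact Subgroup.eq_of_le_of_card_ge hle (by rw [hH, hZc])
  rcases Cfsg.Agent.S0016.result p hP (fun H K hH hK => (key H hH).trans (key K hK).symm) with hc | ⟨h2, n, ⟨e⟩⟩
  · exact Or.inl hc
  · rcases Nat.eq_zero_or_pos n with rfl | hn
    · left
      have hc : IsCyclic (QuaternionGroup 1) := by
        refine ⟨⟨QuaternionGroup.xa 0, ?_⟩⟩
        have : ∀ x : QuaternionGroup 1, ∃ k : Fin 4, (QuaternionGroup.xa 0 : QuaternionGroup 1) ^ (k : ℕ) = x := by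
          decide
        intro x
        obtain ⟨k, hk⟩ := this x
        exact ⟨((k : ℕ) : ℤ), (zpow_natCast _ _).trans hk⟩
      have e' : P ≃* QuaternionGroup 1 := e
      exact isCyclic_of_surjective e'.symm e'.symm.surjective
    · exact Or.inr ⟨h2, n + 2, by omega, ⟨e⟩⟩

/-- **The reduction**: normal, cyclic and quaternion `P` are known. -/
theorem rk_of (H : ∀ {p : ℕ} [Fact p.Prime] {G : Type u} [Group G] [Finite G] (P : Sylow p G) (_ : TIs P)
    (_ : ¬ (P : Subgroup G).Normal) {V : Subgroup G} (_ : V ≤ P) (_ : IsMulCommutative V)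
    (_ : ¬ IsCyclic V), Rk p P) {p : ℕ} [Fact p.Prime] {G : Type u} [Group G] [Finite G] (P : Sylow p G)
    (hTI : TIs P) : Rk p P := by
  by_cases hn : (P : Subgroup G).Normal
  · exact rk_normal P (Subgroup.normalizer_eq_top_iff.2 hn)
  by_cases hV : ∃ V : Subgroup G, V ≤ P ∧ IsMulCommutative V ∧ ¬ IsCyclic V
  · obtain ⟨V, hV1, hV2, hV3⟩ := hV
    exact H P hTI hn hV1 hV2 hV3
  push Not at hV
  rcases exists_V (P : Subgroup G) P.isPGroup' hV with hc | ⟨rfl, n, hn3, ⟨e⟩⟩
  · refine rk_cyclic P ?_ hc hTI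
    intro h1
    apply hn
    rw [h1]
    infer_instance
  · exact rk_quat P hTI hn3 e

end Cfsg.Agent.H723.TI
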