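import Mathlib
import Cfsg.Agent.H723.TI.Dich
import Cfsg.Agent.H476.TI.RedFill
import Cfsg.Agent.H608.TI.Group

/-!
# S4819 from the six exceptional rows
-/

set_option autoImplicit false

namespace Cfsg.Agent.H723.TI

open Cfsg

universe u

/-- T2 (helper608) -/
theorem rankOne : RankOne.{u} := by
  intro p _ G _ _ P hP1 hTI hc M hM B hB hBP b hb
  exact Cfsg.Agent.H608.TI.blockRank_eq_of_card hM P hP1 hTI hc hB hBP hb

/-- **S4819 from the rows.** -/
theorem main (h11 : RowM11.{u}) (hl : RowL34.{u}) (ht : RowTits.{u}) (hm : RowMcL.{u}) (hj : RowJ4.{u})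
    (hsz : RowSz32.{u}) {p : ℕ} [Fact p.Prime] {G : Type u} [Group G] [Finite G] (P : Sylow p G) (hTI : TIs P) :
    Rk p P :=
  rk_of (fun P hTI hn _ hVP hVc hV => Cfsg.Agent.H476.TI.rk_red rankOne h11 hl ht hm hj hsz P hTI hn hVP hVc hV) P hTI

end Cfsg.Agent.H723.TI
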