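import Mathlib
import Cfsg.Agent.H723.TI.Main
import Cfsg.Agent.H261.TI.GM11
import Cfsg.Agent.H261.TI.GSzRow
import Cfsg.Agent.H345.TiT2.RowTFin
import Cfsg.Agent.H345.TiM.Row
import Cfsg.Agent.H735.J4C.Row
import Cfsg.Agent.H155.TI.Row

/-!
# S4819: blocks whose defect group is a Sylow `p`-subgroup with the TI property (helper723; rows by helpers 261, 155, 345,
735, 966 and many others)
-/

set_option autoImplicit false

namespace Cfsg.Agent.H723.TI

open Cfsg

universe u

/-- **S4819** -/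
theorem fin {p : ℕ} [Fact p.Prime] {G : Type u} [Group G] [Finite G] (P : Sylow p G) (hTI : TIs P) : Rk p P :=
  main Cfsg.Agent.H261.TI.rowM11 Cfsg.Agent.H155.TI.rowL34 Cfsg.Agent.H345.TiT2.rowTits
    Cfsg.Agent.H345.TiM.rowMcL Cfsg.Agent.H735.J4C.rowJ4 Cfsg.Agent.H261.TI.rowSz32 P hTI

end Cfsg.Agent.H723.TI
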